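import Cfsg.Agent.SigZeroSuz.Row
import Cfsg.Agent.KFacts.SuzSheet

/-!
# Orders of the involution centralizers of `Suz` (helper245)
-/

set_option autoImplicit false

namespace Cfsg.Agent.H245.SuzInv

open Cfsg Cfsg.Spor Cfsg.Agent.SporadicRecognition.SuzOrder Cfsg.Agent.SuzThree.CentA
  Cfsg.Agent.SuzThree.QZero Cfsg.Agent.KFacts.SuzLFour Cfsg.Agent.KFacts.SuzTwoB

/-- **The two orders.** -/
theorem card_cent (t : Cfsg.Spor.Suz) (h1 : t ≠ 1) (h2 : t * t = 1) :
    Nat.card (Subgroup.centralizer ({t} : Set Cfsg.Spor.Suz)) = 3317760 ∨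
      Nat.card (Subgroup.centralizer ({t} : Set Cfsg.Spor.Suz)) = 161280 := by
  rcases SporRec.SuzCl.two t h2 h1 with ⟨g, hg⟩ | ⟨g, hg⟩
  · left
    have h3 : SporRec.SuzCl.ia = z0 := KFacts.SuzY.z0_eq.symm
    rw [h3] at hg
    rw [← hg, SigZeroSuz.Row.card_conj]
    exact KFacts.SuzCent.card_C1
  · right
    have h3 : SporRec.SuzCl.ie = e0 := by
      show (PresentedGroup.of Suz.Gen.e : Cfsg.Spor.Suz) = el [Suz.Gen.e]
      unfold el
      rw [List.map_cons, List.map_nil, List.prod_cons, List.prod_nil, mul_one]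
    rw [h3] at hg
    rw [← hg, SigZeroSuz.Row.card_conj]
    exact KFacts.SuzTwoB.card_CE

/-- `7 * 27` does not divide the order of the centralizer of an involution of `Suz` -/
theorem not_dvd {X : Type*} [Group X] (h : Spor.IsoSuz X) (t : X) (h1 : t ≠ 1) (h2 : t * t = 1) :
    ¬ 189 ∣ Nat.card (Subgroup.centralizer ({t} : Set X)) := by
  obtain ⟨e⟩ := h
  have h3 : Nat.card (Subgroup.centralizer ({t} : Set X)) =
      Nat.card (Subgroup.centralizer ({e t} : Set Cfsg.Spor.Suz)) := by
    refine Nat.card_congr ⟨fun x => ⟨e x, ?_⟩, fun x => ⟨e.symm x, ?_⟩, fun x => ?_, fun x => ?_⟩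
    · rw [Subgroup.mem_centralizer_singleton_iff, ← map_mul, ← map_mul]
      exact congrArg e (Subgroup.mem_centralizer_singleton_iff.1 x.2)
    · rw [Subgroup.mem_centralizer_singleton_iff]
      apply e.injective
      rw [map_mul, map_mul, e.apply_symm_apply]
      exact Subgroup.mem_centralizer_singleton_iff.1 x.2
    · exact Subtype.ext (e.symm_apply_apply _)
    · exact Subtype.ext (e.apply_symm_apply _)
  rw [h3]
  rcases card_cent (e t) (fun h => h1 (by rw [← map_one e] at h; exact e.injective h))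
    (by rw [← map_mul, h2, map_one]) with h4 | h4
  · rw [h4]; norm_num
  · rw [h4]; norm_num

end Cfsg.Agent.H245.SuzInv
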