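import Cfsg.Agent.H245.RedTwo
import Cfsg.Agent.H245.SuzInv
import Cfsg.Agent.H245.O8Refl
import Cfsg.Agent.OddHalf.Table.OutOEight

/-!
# `Ω₈⁺(2)` in `Suz` and the 2-part (helper245)

`K ≤ G`, `K ≃* Ω₈⁺(2)`, `C_G(K) = 1`, `N_G(K)` of odd index.
* `not_two_pow` : `2 ^ 14` does not divide `|G|`;
* `not_suz` : `K` is not contained in a normal subgroup isomorphic to `Suz`.
-/

set_option autoImplicit false

namespace Cfsg.Agent.H245.NotSuz

open Subgroup Cfsg O8Refl

variable {G : Type*} [Group G] {F : Type*} [Field F] [Fintype F]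

theorem card_K (hF : Fintype.card F = 2) {K : Type*} [Group K] (e : Nonempty (K ≃* POmega F (quadFormPlus 4 F))) :
    Nat.card K = 174182400 := by
  obtain ⟨e⟩ := e
  obtain ⟨e'⟩ := Cfsg.Agent.StdO8.Model.exists_equiv hF
  rw [Nat.card_congr (e.trans e').toEquiv, card_Om]

theorem card_aut (hF : Fintype.card F = 2) {K : Type*} [Group K] (e : Nonempty (K ≃* POmega F (quadFormPlus 4 F))) :
    Nat.card (MulAut K) = 1045094400 := by
  have h1 := card_K hF e
  obtain ⟨e⟩ := e
  rw [Nat.card_congr (MulAut.congr e).toEquiv, OddHalf.Table.OutOEight.card_aut hF, ← Nat.card_congr e.toEquiv, h1]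

/-- conjugation is injective on the normalizer -/
theorem inj {K : Subgroup G} (hC : centralizer (K : Set G) = ⊥) : Function.Injective K.normalizerMonoidHom := by
  rw [injective_iff_map_eq_one]
  intro x hx
  have h1 : x ∈ K.normalizerMonoidHom.ker := hx
  rw [normalizerMonoidHom_ker, mem_subgroupOf, hC, mem_bot] at h1
  exact Subtype.ext h1

theorem card_subgroupOf (A B : Subgroup G) : Nat.card (A.subgroupOf B) = Nat.card ↥(A ⊓ B) := by
  rw [← card_map_of_injective B.subtype_injective, subgroupOf_map_subtype]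

theorem not_two_pow (hF : Fintype.card F = 2) {K : Subgroup G} (e : Nonempty (K ≃* POmega F (quadFormPlus 4 F)))
    (hC : centralizer (K : Set G) = ⊥) (hidx : ¬ 2 ∣ (normalizer (K : Set G)).index) : ¬ 2 ^ 14 ∣ Nat.card G := by
  intro h
  rw [← (normalizer (K : Set G)).index_mul_card] at h
  have h1 : 2 ^ 14 ∣ Nat.card (normalizer (K : Set G)) :=
    Nat.Coprime.dvd_of_dvd_mul_left (Nat.Coprime.pow_left _ ((Nat.Prime.coprime_iff_not_dvd Nat.prime_two).2 hidx)) h
  have h2 := Subgroup.card_dvd_of_injective _ (inj hC)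
  rw [card_aut hF e] at h2
  have h3 := h1.trans h2
  revert h3
  decide

theorem not_suz [Finite G] (hF : Fintype.card F = 2) {K L : Subgroup G} (e : Nonempty (K ≃* POmega F (quadFormPlus 4 F)))
    (hC : centralizer (K : Set G) = ⊥) (hidx : ¬ 2 ∣ (normalizer (K : Set G)).index) (hL : L.Normal)
    (hKL : K ≤ L) (hS : Spor.IsoSuz L) : False := by
  have : Fact (Nat.Prime 2) := ⟨Nat.prime_two⟩
  obtain ⟨S, hSH⟩ := Red.exists_sylow_le hidx
  let f := K.normalizerMonoidHom
  let M : Subgroup (normalizer (K : Set G)) := L.subgroupOf (normalizer (K : Set G))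
  -- the order of `M`
  have hcL : Nat.card L = 448345497600 := by
    rw [hS.elim fun e => Nat.card_congr e.toEquiv]
    exact SporadicRecognition.SuzOrder.card_Suz
  have hM1 : Nat.card M = Nat.card ((normalizer (K : Set G)).subgroupOf L) := by
    rw [card_subgroupOf, card_subgroupOf, inf_comm]
  have hM2 : ¬ 2 ∣ ((normalizer (K : Set G)).subgroupOf L).index := by
    obtain ⟨Q, hQ⟩ := S0542.result 2 L hL.isSubnormal S
    intro h
    apply Q.not_dvd_index
    refine h.trans (index_dvd_of_le ?_)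
    rw [hQ]
    exact comap_mono hSH
  have hM3 : 2 ^ 13 ∣ Nat.card M := by
    rw [hM1]
    have h1 := ((normalizer (K : Set G)).subgroupOf L).index_mul_card
    rw [hcL] at h1
    have h2 : 2 ^ 13 ∣ ((normalizer (K : Set G)).subgroupOf L).index * Nat.card ((normalizer (K : Set G)).subgroupOf L) := by
      rw [h1]; decide
    exact Nat.Coprime.dvd_of_dvd_mul_left
      (Nat.Coprime.pow_left _ ((Nat.Prime.coprime_iff_not_dvd Nat.prime_two).2 hM2)) h2
  have hM4 : Nat.card (M.map f) = Nat.card M := card_map_of_injective (inj hC)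
  have hA := card_aut hF e
  have hfin : Finite (MulAut K) := Nat.finite_of_card_ne_zero (by rw [hA]; norm_num)
  have hM5 : ¬ 2 ∣ (M.map f).index := by
    intro h
    have h1 := (M.map f).index_mul_card
    rw [hM4, hA] at h1
    have h2 : 2 * 2 ^ 13 ∣ (M.map f).index * Nat.card M := Nat.mul_dvd_mul h hM3
    rw [h1] at h2
    revert h2
    decide
  obtain ⟨τ, hτ1, hτ2, hτf⟩ := exists_refl hF e
  have hP : IsPGroup 2 (zpowers τ) := by
    refine IsPGroup.of_card_dvd_pow (n := 1) ?_
    rw [Nat.card_zpowers]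
    apply orderOf_dvd_of_pow_eq_one
    rw [pow_one, pow_two, hτ2]
  obtain ⟨P, hP⟩ := hP.exists_le_sylow
  obtain ⟨Q, hQ⟩ := Red.exists_sylow_le hM5
  obtain ⟨γ, hγ⟩ := MulAction.exists_smul_eq (MulAut K) P Q
  have h1 : γ * τ * γ⁻¹ ∈ M.map f := by
    apply hQ
    rw [← hγ]
    exact ⟨τ, hP (mem_zpowers τ), rfl⟩
  obtain ⟨t, htM, ht⟩ := h1
  have htL : (t : G) ∈ L := mem_subgroupOf.1 htM
  have ht1 : t ≠ 1 := by
    rintro rfl
    rw [map_one] at ht
    apply hτ1
    have h2 : γ * τ * γ⁻¹ = 1 := ht.symm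
    rwa [mul_inv_eq_one, mul_eq_left] at h2
  have ht2 : t * t = 1 := by
    apply inj hC
    change f (t * t) = f 1
    rw [map_mul, map_one, ht]
    rw [show γ * τ * γ⁻¹ * (γ * τ * γ⁻¹) = γ * (τ * τ) * γ⁻¹ by group, hτ2]
    group
  have hfix : 1451520 ∣ Nat.card (fix (f t)) := by
    rw [ht, card_fix_conj]
    exact hτf
  -- the fixed points of `f t` are in the centralizer
  let g : ↥(fix (f t)) →* ↥(centralizer ({(⟨t, htL⟩ : L)} : Set L)) :=
    { toFun := fun x => ⟨⟨(x : K), hKL (x : K).2⟩, by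
        rw [mem_centralizer_singleton_iff]
        apply Subtype.ext
        have h2 : ((f t (x : K) : K) : G) = (x : K) := congrArg Subtype.val (mem_fix.1 x.2)
        have h3 : (t : G) * (x : K) * (t : G)⁻¹ = (x : K) := h2
        rw [mul_inv_eq_iff_eq_mul] at h3
        exact h3.symm⟩
      map_one' := rfl
      map_mul' := fun _ _ => rfl }
  have hg : Function.Injective g := by
    intro x y hxy
    have h2 : (((x : K)) : G) = (y : K) := 
      congrArg (fun z : ↥(centralizer ({(⟨t, htL⟩ : L)} : Set L)) => ((z : L) : G)) hxy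
    exact Subtype.ext (Subtype.ext h2)
  have h2 := Subgroup.card_dvd_of_injective g hg
  refine SuzInv.not_dvd hS ⟨t, htL⟩ ?_ ?_ ?_
  · intro h
    apply ht1
    have h3 : (t : G) = 1 := congrArg (fun z : L => (z : G)) h
    exact Subtype.ext h3
  · have h3 : (t : G) * t = 1 := congrArg (fun z : normalizer (K : Set G) => (z : G)) ht2
    exact Subtype.ext h3
  exact (dvd_trans (by decide) hfix).trans h2

end Cfsg.Agent.H245.NotSuz
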