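import Cfsg.Agent.H691.AExt
import Cfsg.Agent.H691.AN.Defs

/-!
# S4766, C2, P1b: the almost simple quotient without the hypothesis on the commutator subgroup (helper245)
-/

set_option autoImplicit false

namespace Cfsg.Agent.H245.C2

open Cfsg Cfsg.Agent.H691.AExt

universe u

variable {Y : Type u} [Group Y] {N R : Subgroup Y} [hN : N.Normal] [hR : R.Normal]

/-- **The almost simple quotient** `Y / C_Y(N / R)`, `N / R` nonabelian simple (`R ≤ N` is not needed). -/
theorem exists_AS (hs : IsSimpleGroup (N ⧸ R.subgroupOf N)) (hna : ¬ IsMulCommutative (N ⧸ R.subgroupOf N)) :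
    H691.AN.AlmostSimple (Y ⧸ KK N R) (N.map (QuotientGroup.mk' (KK N R))) ∧
      ∃ e : (N ⧸ R.subgroupOf N) ≃* (N.map (QuotientGroup.mk' (KK N R))),
        ∀ n : N, ((e (QuotientGroup.mk n) : N.map (QuotientGroup.mk' (KK N R))) : Y ⧸ KK N R) =
          QuotientGroup.mk' (KK N R) n := by
  set π := QuotientGroup.mk' (KK N R) with hπ
  have hsurj : Function.Surjective π := QuotientGroup.mk'_surjective _
  let f : N →* N.map π := π.subgroupMap N
  have hf : Function.Surjective f := π.subgroupMap_surjective N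
  have hker : R.subgroupOf N = f.ker := by
    ext n
    rw [Subgroup.mem_subgroupOf, MonoidHom.mem_ker]
    have h1 : f n = 1 ↔ π (n : Y) = 1 := by
      rw [Subtype.ext_iff]
      rfl
    rw [h1, hπ, QuotientGroup.mk'_apply, QuotientGroup.eq_one_iff]
    exact ⟨fun h => le_KK N R h, fun h => inf_KK hs hna n.2 h⟩
  let e : (N ⧸ R.subgroupOf N) ≃* (N.map π) :=
    (QuotientGroup.quotientMulEquivOfEq hker).trans (QuotientGroup.quotientKerEquivOfSurjective f hf)
  refine ⟨⟨hN.map π hsurj, ?_, ?_, ?_⟩, e, fun n => rfl⟩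
  · exact e.symm.isSimpleGroup
  · intro hc
    exact hna ⟨⟨fun a b => e.injective (by rw [map_mul, map_mul]; exact hc.is_comm.comm _ _)⟩⟩
  · rw [eq_bot_iff]
    intro x hx
    obtain ⟨y, rfl⟩ := hsurj x
    rw [Subgroup.mem_centralizer_iff] at hx
    rw [Subgroup.mem_bot, hπ, QuotientGroup.mk'_apply, QuotientGroup.eq_one_iff]
    intro n hn
    have h1 := hx (π n) (Subgroup.mem_map_of_mem π hn)
    have h2 : π (y * n * y⁻¹ * n⁻¹) = 1 := by
      rw [map_mul, map_mul, map_mul, map_inv, map_inv, ← h1]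
      group
    rw [hπ, QuotientGroup.mk'_apply, QuotientGroup.eq_one_iff] at h2
    exact inf_KK hs hna (N.mul_mem (hN.conj_mem n hn y) (N.inv_mem hn)) h2

/-- `KK N R ∩ N = R` -/
theorem KK_inf (hRN : R ≤ N) (hs : IsSimpleGroup (N ⧸ R.subgroupOf N))
    (hna : ¬ IsMulCommutative (N ⧸ R.subgroupOf N)) : KK N R ⊓ N = R :=
  le_antisymm (fun _ h => inf_KK hs hna h.2 h.1) (le_inf (le_KK N R) hRN)

end Cfsg.Agent.H245.C2
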