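import Cfsg.Agent.H245.Names
import Cfsg.Agent.OddHalf.NI.FrameDef

/-!
# Known simple groups of order divisible by `|Ω₈⁺(2)|` and not by `2 ^ 14` (helper245)

`elim` : such a group is `Ω₈⁺(2)`, `PΩ₈⁺(3)`, `Suz`, a group of Lie type over a field of odd order `q > 3` of Lie rank at least
2 or `U₃(q)` (`NI.LieBig`) or `L₂(q)`, `q > 3` odd.
-/

set_option autoImplicit false

namespace Cfsg.Agent.H245.ElimEight

open Cfsg OrdDiv Names

universe u

theorem q_cases {q : ℕ} (hq : IsPrimePow q) : 2 ∣ q ∨ q = 3 ∨ (Odd q ∧ 3 < q) := by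
  have h1 := hq.one_lt
  rcases Nat.even_or_odd q with h | h
  · exact Or.inl h.two_dvd
  · rcases h with ⟨k, rfl⟩
    rcases Nat.lt_or_ge (2 * k + 1) 4 with h2 | h2
    · right; left; omega
    · right; right
      exact ⟨⟨k, rfl⟩, by omega⟩

theorem two_pow {den c X : ℕ} (k : ℕ) (h : den * c = X) (hd : den ∣ 2 ^ k) (hX : 2 ^ (14 + k) ∣ X) : 2 ^ 14 ∣ c := by
  obtain ⟨e, he⟩ := hd
  have h1 : 2 ^ (14 + k) ∣ 2 ^ k * c := by
    rw [he, mul_assoc, mul_comm e, ← mul_assoc, h]
    exact Dvd.dvd.mul_right hX e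
  rw [pow_add, mul_comm] at h1
  exact Nat.dvd_of_mul_dvd_mul_left (by positivity) h1

theorem range_dvd (f : ℕ → ℕ) {m n : ℕ} (h : m ≤ n) :
    ((List.range m).map f).prod ∣ ((List.range n).map f).prod := by
  rw [prod_list, prod_list]
  exact Finset.prod_dvd_prod_of_subset _ _ _ (Finset.range_subset_range.2 h)

theorem glN_eq (n q : ℕ) : q ^ (n * (n - 1) / 2) * ((List.range n).map fun i => q ^ (i + 1) - 1).prod = glN n q := by
  unfold glN
  rw [prod_list, prod_list]
  have h1 : ∀ i ∈ Finset.range n, q ^ n - q ^ i = q ^ i * (q ^ (n - i) - 1) := by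
    intro i hi
    rw [Finset.mem_range] at hi
    rw [Nat.mul_sub, mul_one, ← pow_add, Nat.add_sub_cancel' hi.le]
  rw [Finset.prod_congr rfl h1, Finset.prod_mul_distrib, Finset.prod_pow_eq_pow_sum, Finset.sum_range_id]
  congr 1
  rw [← Finset.prod_range_reflect]
  apply Finset.prod_congr rfl
  intro i hi
  rw [Finset.mem_range] at hi
  congr 2
  omega

theorem three_pow_mod_two (m : ℕ) : 3 ^ m % 2 = 1 := by
  rw [Nat.pow_mod]; simp

theorem ree_mod (m : ℕ) : ((3 ^ (2 * m + 1)) ^ 3 * ((3 ^ (2 * m + 1) - 1) * ((3 ^ (2 * m + 1)) ^ 3 + 1))) % 16 = 8 := by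
  have h : ∃ t, 3 ^ (2 * m + 1) = 16 * t + 3 ∨ 3 ^ (2 * m + 1) = 16 * t + 11 := by
    induction m with
    | zero => exact ⟨0, Or.inl rfl⟩
    | succ m ih =>
      obtain ⟨t, ht⟩ := ih
      have h1 : 3 ^ (2 * (m + 1) + 1) = 9 * 3 ^ (2 * m + 1) := by
        rw [show 2 * (m + 1) + 1 = 2 * m + 1 + 2 by ring, pow_add]; ring
      rcases ht with ht | ht
      · exact ⟨9 * t + 1, Or.inr (by rw [h1, ht]; ring)⟩
      · exact ⟨9 * t + 6, Or.inl (by rw [h1, ht]; ring)⟩
  obtain ⟨t, ht | ht⟩ := h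
  · rw [ht, show 16 * t + 3 - 1 = 16 * t + 2 by omega]
    simp [Nat.mul_mod, Nat.pow_mod, Nat.add_mod]
  · rw [ht, show 16 * t + 11 - 1 = 16 * t + 10 by omega]
    simp [Nat.mul_mod, Nat.pow_mod, Nat.add_mod]

/-- **The elimination by orders.** -/
theorem elim (T : OrderTable.{u}) {L : Type u} [Group L] (hk : IsKnownSimple' L)
    (hna : ¬ ∀ a b : L, a * b = b * a) (hM : 174182400 ∣ Nat.card L) (h14 : ¬ 2 ^ 14 ∣ Nat.card L) :
    Real (.oplus 4 2) L ∨ Real (.oplus 4 3) L ∨ Spor.IsoSuz L ∨ OddHalf.NI.LieBig L ∨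
      ∃ (F : Type) (_ : Field F) (_ : Fintype F), Odd (Fintype.card F) ∧ 3 < Fintype.card F ∧
        Nonempty (L ≃* Matrix.ProjectiveSpecialLinearGroup (Fin 2) F) := by
  have h14' : ¬ 2 ^ (13 + 1) ∣ Nat.card L := h14
  rcases named T hk hna with h | h | h | h | h | h | h | h | h | h | h | h | h | h | h | h | h | h
  · exfalso
    obtain ⟨n, hn, -, hc⟩ := h
    rcases Nat.lt_or_ge n 16 with h | h
    · have h1 : n.factorial ∣ Nat.factorial 15 := Nat.factorial_dvd_factorial (by omega)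
      rw [hc] at h1
      have h2 := (Nat.mul_dvd_mul_left 2 hM).trans h1
      revert h2
      decide +kernel
    · have h1 : Nat.factorial 16 ∣ n.factorial := Nat.factorial_dvd_factorial h
      rw [hc] at h1
      apply h14
      have h2 : 2 ^ 15 ∣ 2 * Nat.card L := dvd_trans (by decide +kernel) h1
      rw [pow_succ', show (2 : ℕ) ^ 14 = 2 ^ 14 from rfl] at h2
      exact Nat.dvd_of_mul_dvd_mul_left (by norm_num) h2
  · obtain ⟨n, q, hr, h⟩ := h
    rcases q_cases h.pp with h2 | h2 | h2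
    · exfalso
      have h3 := h.mem_boxP Nat.prime_two h2 h14' hM
      rw [show boxP fPSL 2 13 174182400 = [] from by decide +kernel] at h3
      exact List.not_mem_nil h3
    · exfalso
      subst h2
      have hlo : 2 ≤ n := h.lo
      rcases Nat.lt_or_ge n 8 with h4 | h4
      · have h5 := h.mod_eq hM
        clear h h14 h14' hr hk hna
        interval_cases n <;> revert h5 <;> decide +kernel
      · apply h14
        refine two_pow 2 h.card ?_ ?_
        · change Nat.gcd n 2 * 2 ∣ 2 ^ 2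
          exact Nat.mul_dvd_mul (Nat.gcd_dvd_right _ _) dvd_rfl
        · change 2 ^ 16 ∣ glN n 3
          rw [← glN_eq]
          exact Dvd.dvd.mul_left (dvd_trans (by decide +kernel) (range_dvd (fun i => 3 ^ (i + 1) - 1) h4)) _
    · obtain ⟨F, i1, i2, hF, e⟩ := hr
      rcases Nat.lt_or_ge n 3 with h3 | h3
      · have hlo : 2 ≤ n := h.lo
        obtain rfl : n = 2 := by omega
        exact Or.inr (Or.inr (Or.inr (Or.inr ⟨F, i1, i2, by rw [hF]; exact h2.1, by rw [hF]; exact h2.2, e⟩)))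
      · exact Or.inr (Or.inr (Or.inr (Or.inl ⟨F, i1, i2, by rw [hF]; exact h2.1, by rw [hF]; exact h2.2,
          Or.inl ⟨n, h3, e⟩⟩)))
  · obtain ⟨n, q, hr, h⟩ := h
    have hlo : 2 ≤ n := h.lo
    rcases q_cases h.pp with h2 | h2 | h2
    · exfalso
      have h3 := h.mem_boxP Nat.prime_two h2 h14' hM
      rw [show boxP fPSp 2 13 174182400 = [] from by decide +kernel] at h3
      exact List.not_mem_nil h3
    · exfalso
      subst h2
      rcases Nat.lt_or_ge n 4 with h4 | h4
      · have h5 := h.mod_eq hM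
        clear h h14 h14' hr hk hna
        interval_cases n <;> revert h5 <;> decide +kernel
      · apply h14
        refine two_pow 1 h.card (by change Nat.gcd 2 2 ∣ 2; decide) ?_
        change 2 ^ 15 ∣ 3 ^ (n ^ 2) * prB 3 n
        exact Dvd.dvd.mul_left (dvd_trans (by decide +kernel) (range_dvd (fun i => 3 ^ (2 * (i + 1)) - 1) h4)) _
    · obtain ⟨F, i1, i2, hF, e⟩ := hr
      exact Or.inr (Or.inr (Or.inr (Or.inl ⟨F, i1, i2, by rw [hF]; exact h2.1, by rw [hF]; exact h2.2,
          Or.inr (Or.inl ⟨n, hlo, e⟩)⟩)))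
  · obtain ⟨n, q, hr, h⟩ := h
    have hlo : 3 ≤ n := h.lo
    rcases q_cases h.pp with h2 | h2 | h2
    · exfalso
      have h3 := h.mem_boxP Nat.prime_two h2 h14' hM
      rw [show boxP fPSU 2 13 174182400 = [] from by decide +kernel] at h3
      exact List.not_mem_nil h3
    · exfalso
      subst h2
      rcases Nat.lt_or_ge n 8 with h4 | h4
      · have h5 := h.mod_eq hM
        clear h h14 h14' hr hk hna
        interval_cases n <;> revert h5 <;> decide +kernel
      · apply h14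
        refine two_pow 4 h.card ?_ ?_
        · change Nat.gcd n 4 * 4 ∣ 4 * 4
          exact Nat.mul_dvd_mul (Nat.gcd_dvd_right _ _) dvd_rfl
        · change 2 ^ 18 ∣ 3 ^ (n * (n - 1) / 2) * prU 3 n
          exact Dvd.dvd.mul_left (dvd_trans (by decide +kernel) (range_dvd _ h4)) _
    · obtain ⟨F, i1, i2, hF, e⟩ := hr
      exact Or.inr (Or.inr (Or.inr (Or.inl ⟨F, i1, i2, by rw [hF]; exact h2.1.pow,
        by rw [hF]; nlinarith [h2.2], Or.inr (Or.inr (Or.inl ⟨n, q, h2.2, hF, hlo, e⟩))⟩)))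
  · obtain ⟨n, q, hr, h⟩ := h
    have hlo : 3 ≤ n := h.lo
    rcases q_cases h.pp with h2 | h2 | h2
    · exfalso
      have h3 := h.mem_boxP Nat.prime_two h2 h14' hM
      rw [show boxP fOOdd 2 13 174182400 = [] from by decide +kernel] at h3
      exact List.not_mem_nil h3
    · exfalso
      subst h2
      rcases Nat.lt_or_ge n 4 with h4 | h4
      · have h5 := h.mod_eq hM
        clear h h14 h14' hr hk hna
        interval_cases n; revert h5; decide +kernel
      · apply h14
        refine two_pow 1 h.card (by change 2 ∣ 2; decide) ?_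
        change 2 ^ 15 ∣ 3 ^ (n ^ 2) * prB 3 n
        exact Dvd.dvd.mul_left (dvd_trans (by decide +kernel) (range_dvd (fun i => 3 ^ (2 * (i + 1)) - 1) h4)) _
    · obtain ⟨F, i1, i2, hF, e⟩ := hr
      exact Or.inr (Or.inr (Or.inr (Or.inl ⟨F, i1, i2, by rw [hF]; exact h2.1, by rw [hF]; exact h2.2,
          Or.inr (Or.inr (Or.inr (Or.inl ⟨n, hlo, e⟩)))⟩)))
  · obtain ⟨n, q, hr, h⟩ := h
    have hlo : 4 ≤ n := h.lo
    rcases q_cases h.pp with h2 | h2 | h2
    · have h3 := h.mem_boxP Nat.prime_two h2 h14' hM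
      rw [show boxP fOPlus 2 13 174182400 = [(4, 2)] from by decide +kernel, List.mem_singleton, Prod.mk.injEq] at h3
      obtain ⟨rfl, rfl⟩ := h3
      exact Or.inl hr
    · subst h2
      rcases Nat.lt_or_ge n 5 with h4 | h4
      · obtain rfl : n = 4 := by omega
        exact Or.inr (Or.inl hr)
      · exfalso
        apply h14
        refine two_pow 2 h.card (Nat.gcd_dvd_left _ _) ?_
        change 2 ^ 16 ∣ 3 ^ (n * (n - 1)) * ((3 ^ n - 1) * prB 3 (n - 1))
        refine Dvd.dvd.mul_left ?_ _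
        rw [show (2 : ℕ) ^ 16 = 2 * 2 ^ 15 from rfl]
        refine Nat.mul_dvd_mul ?_ ?_
        · have := three_pow_mod_two n
          omega
        · exact dvd_trans (by decide +kernel) (range_dvd (fun i => 3 ^ (2 * (i + 1)) - 1) (show 4 ≤ n - 1 by omega))
    · obtain ⟨F, i1, i2, hF, e⟩ := hr
      exact Or.inr (Or.inr (Or.inr (Or.inl ⟨F, i1, i2, by rw [hF]; exact h2.1, by rw [hF]; exact h2.2,
          Or.inr (Or.inr (Or.inr (Or.inr (Or.inl ⟨n, hlo, e⟩))))⟩)))
  · obtain ⟨n, q, hr, h⟩ := h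
    have hlo : 4 ≤ n := h.lo
    rcases q_cases h.pp with h2 | h2 | h2
    · exfalso
      have h3 := h.mem_boxP Nat.prime_two h2 h14' hM
      rw [show boxP fOMinus 2 13 174182400 = [] from by decide +kernel] at h3
      exact List.not_mem_nil h3
    · exfalso
      subst h2
      rcases Nat.lt_or_ge n 5 with h4 | h4
      · obtain rfl : n = 4 := by omega
        have h5 := h.mod_eq hM
        revert h5; decide +kernel
      · apply h14
        refine two_pow 2 h.card (Nat.gcd_dvd_left _ _) ?_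
        change 2 ^ 16 ∣ 3 ^ (n * (n - 1)) * ((3 ^ n + 1) * prB 3 (n - 1))
        refine Dvd.dvd.mul_left ?_ _
        rw [show (2 : ℕ) ^ 16 = 2 * 2 ^ 15 from rfl]
        refine Nat.mul_dvd_mul ?_ ?_
        · have := three_pow_mod_two n
          omega
        · exact dvd_trans (by decide +kernel) (range_dvd (fun i => 3 ^ (2 * (i + 1)) - 1) (show 4 ≤ n - 1 by omega))
    · obtain ⟨F, i1, i2, a, b, hF, hab, e⟩ := hr
      exact Or.inr (Or.inr (Or.inr (Or.inl ⟨F, i1, i2, by rw [hF]; exact h2.1, by rw [hF]; exact h2.2,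
          Or.inr (Or.inr (Or.inr (Or.inr (Or.inr (Or.inl ⟨n, a, b, hlo, hab, e⟩)))))⟩)))
  · obtain ⟨q, hr, h⟩ := h
    rcases q_cases h.pp with h2 | h2 | h2
    · exfalso
      have h3 := h.mem_boxP Nat.prime_two h2 h14' hM
      rw [show boxP fG2 2 13 174182400 = [] from by decide +kernel] at h3
      exact List.not_mem_nil h3
    · exfalso
      subst h2
      have h5 := h.mod_eq hM
      revert h5; decide +kernel
    · obtain ⟨F, i1, i2, hF, e⟩ := hr
      exact Or.inr (Or.inr (Or.inr (Or.inl ⟨F, i1, i2, by rw [hF]; exact h2.1, by rw [hF]; exact h2.2,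
          Or.inr (Or.inr (Or.inr (Or.inr (Or.inr (Or.inr (Or.inl e))))))⟩)))
  · obtain ⟨q, hr, h⟩ := h
    rcases q_cases h.pp with h2 | h2 | h2
    · exfalso
      have h3 := h.mem_boxP Nat.prime_two h2 h14' hM
      rw [show boxP fF4 2 13 174182400 = [] from by decide +kernel] at h3
      exact List.not_mem_nil h3
    · exfalso
      subst h2
      exact h14 (two_pow 0 h.card (by decide +kernel) (by decide +kernel))
    · obtain ⟨F, i1, i2, hF, e⟩ := hr
      exact Or.inr (Or.inr (Or.inr (Or.inl ⟨F, i1, i2, by rw [hF]; exact h2.1, by rw [hF]; exact h2.2,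
          Or.inr (Or.inr (Or.inr (Or.inr (Or.inr (Or.inr (Or.inr (Or.inl e)))))))⟩)))
  · obtain ⟨q, hr, h⟩ := h
    rcases q_cases h.pp with h2 | h2 | h2
    · exfalso
      have h3 := h.mem_boxP Nat.prime_two h2 h14' hM
      rw [show boxP fE6 2 13 174182400 = [] from by decide +kernel] at h3
      exact List.not_mem_nil h3
    · exfalso
      subst h2
      exact h14 (two_pow 0 h.card (by decide +kernel) (by decide +kernel))
    · obtain ⟨F, i1, i2, hF, e⟩ := hr
      exact Or.inr (Or.inr (Or.inr (Or.inl ⟨F, i1, i2, by rw [hF]; exact h2.1, by rw [hF]; exact h2.2,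
          Or.inr (Or.inr (Or.inr (Or.inr (Or.inr (Or.inr (Or.inr (Or.inr (Or.inl e))))))))⟩)))
  · obtain ⟨q, hr, h⟩ := h
    rcases q_cases h.pp with h2 | h2 | h2
    · exfalso
      have h3 := h.mem_boxP Nat.prime_two h2 h14' hM
      rw [show boxP fE7 2 13 174182400 = [] from by decide +kernel] at h3
      exact List.not_mem_nil h3
    · exfalso
      subst h2
      exact h14 (two_pow 1 h.card (by decide +kernel) (by decide +kernel))
    · obtain ⟨F, i1, i2, hF, e⟩ := hr
      exact Or.inr (Or.inr (Or.inr (Or.inl ⟨F, i1, i2, by rw [hF]; exact h2.1, by rw [hF]; exact h2.2,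
          Or.inr (Or.inr (Or.inr (Or.inr (Or.inr (Or.inr (Or.inr (Or.inr (Or.inr (Or.inl e)))))))))⟩)))
  · obtain ⟨q, hr, h⟩ := h
    rcases q_cases h.pp with h2 | h2 | h2
    · exfalso
      have h3 := h.mem_boxP Nat.prime_two h2 h14' hM
      rw [show boxP fE8 2 13 174182400 = [] from by decide +kernel] at h3
      exact List.not_mem_nil h3
    · exfalso
      subst h2
      exact h14 (two_pow 0 h.card (by decide +kernel) (by decide +kernel))
    · obtain ⟨F, i1, i2, hF, e⟩ := hr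
      exact Or.inr (Or.inr (Or.inr (Or.inl ⟨F, i1, i2, by rw [hF]; exact h2.1, by rw [hF]; exact h2.2,
          Or.inr (Or.inr (Or.inr (Or.inr (Or.inr (Or.inr (Or.inr (Or.inr (Or.inr (Or.inr (Or.inl e))))))))))⟩)))
  · obtain ⟨q, hr, h⟩ := h
    rcases q_cases h.pp with h2 | h2 | h2
    · exfalso
      have h3 := h.mem_boxP Nat.prime_two h2 h14' hM
      rw [show boxP fTE6 2 13 174182400 = [] from by decide +kernel] at h3
      exact List.not_mem_nil h3
    · exfalso
      subst h2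
      exact h14 (two_pow 2 h.card (by decide +kernel) (by decide +kernel))
    · obtain ⟨F, i1, i2, hF, e⟩ := hr
      exact Or.inr (Or.inr (Or.inr (Or.inl ⟨F, i1, i2, by rw [hF]; exact h2.1.pow, by rw [hF]; nlinarith [h2.2],
          Or.inr (Or.inr (Or.inr (Or.inr (Or.inr (Or.inr (Or.inr (Or.inr (Or.inr (Or.inr (Or.inr (Or.inl ⟨q, h.pp, h2.2, hF, e⟩)))))))))))⟩)))
  · obtain ⟨q, hr, h⟩ := h
    rcases q_cases h.pp with h2 | h2 | h2
    · exfalso
      have h3 := h.mem_boxP Nat.prime_two h2 h14' hM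
      rw [show boxP fTD4 2 13 174182400 = [] from by decide +kernel] at h3
      exact List.not_mem_nil h3
    · exfalso
      subst h2
      have h5 := h.mod_eq hM
      revert h5; decide +kernel
    · obtain ⟨F, i1, i2, hF, e⟩ := hr
      exact Or.inr (Or.inr (Or.inr (Or.inl ⟨F, i1, i2, by rw [hF]; exact h2.1.pow,
          by rw [hF]; exact h2.2.trans_le (Nat.le_self_pow (by norm_num) q),
          Or.inr (Or.inr (Or.inr (Or.inr (Or.inr (Or.inr (Or.inr (Or.inr (Or.inr (Or.inr (Or.inr (Or.inr (⟨q, h.pp, h2.2, hF, e⟩))))))))))))⟩)))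
  · exfalso
    obtain ⟨q, hr, h⟩ := h
    obtain ⟨F, i1, i2, m, hm, hF, hq, e⟩ := hr
    have h3 := h.mem_boxP Nat.prime_two (by rw [hq]; exact dvd_pow_self 2 (by omega)) h14' hM
    rw [show boxP fSz 2 13 174182400 = [] from by decide +kernel] at h3
    exact List.not_mem_nil h3
  · exfalso
    obtain ⟨q, hr, h⟩ := h
    obtain ⟨F, i1, i2, m, hm, hF, hq, e⟩ := hr
    have h3 : 1 * Nat.card L = q ^ 3 * ((q - 1) * (q ^ 3 + 1)) := h.card
    rw [hq, one_mul] at h3
    have h4 := ree_mod m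
    rw [← h3] at h4
    omega
  · exfalso
    obtain ⟨q, hr, h⟩ := h
    obtain ⟨F, i1, i2, m, hm, hF, hq, e⟩ := hr
    have h3 := h.mem_boxP Nat.prime_two (by rw [hq]; exact dvd_pow_self 2 (by omega)) h14' hM
    rw [show boxP fTF4 2 13 174182400 = [] from by decide +kernel] at h3
    exact List.not_mem_nil h3
  · obtain ⟨x, hx, hr, hc⟩ := h
    have h3 : ∀ x ∈ spor, x.2 % 174182400 = 0 → x.2 % 2 ^ 14 ≠ 0 → x.1 = .suz := by decide +kernel
    have h4 := h3 x hx (by rw [← hc]; exact Nat.mod_eq_zero_of_dvd hM)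
      (fun h => h14 (by rw [hc]; exact Nat.dvd_of_mod_eq_zero h))
    rw [h4] at hr
    exact Or.inr (Or.inr (Or.inl hr))

end Cfsg.Agent.H245.ElimEight
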