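import Cfsg.Agent.OrdDiv.Main

/-!
# The known simple groups by name, with their order equations (helper245)

* `Ok D n q c` : `(n, q)` is a member of the family `D` (`OrdDiv.Fam`) of order `c`: `den n q * c = num n q`,
  `q ^ e n ∣ num n q`, `den n q` prime to `q`, `q` a prime power;
* `Named S` : `S` is an alternating group, a member of one of the 16 families with its order data, or sporadic (or Tits)
  with its order;
* `named` : every known nonabelian simple group is `Named` (given `OrdDiv.OrderTable`, see `OrdDiv.Table.table`);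
* `Ok.pow_dvd`, `Ok.mem_boxP` : the finite box of the members in characteristic `p` with `¬ p ^ (a + 1) ∣ c` and `M ∣ c`.
-/

set_option autoImplicit false

namespace Cfsg.Agent.H245.Names

open Cfsg OrdDiv

universe u

/-- order data of the member `(n, q)` of the family `D`, of order `c` -/
structure Ok (D : Fam) (n q c : ℕ) : Prop where
  pp : IsPrimePow q
  lo : D.lo ≤ n
  le : n ≤ D.e n + 1
  pos : 1 ≤ D.e n
  ok : D.ok n q = true
  card : D.den n q * c = D.num n q
  pow : q ^ D.e n ∣ D.num n q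
  cop : (D.den n q).Coprime q

/-- `S` is a known nonabelian simple group, with its name and its order -/
def Named (S : Type u) [Group S] : Prop :=
  (∃ n, 5 ≤ n ∧ Real (.alt n) S ∧ n.factorial = 2 * Nat.card S) ∨
  (∃ n q, Real (.psl n q) S ∧ Ok fPSL n q (Nat.card S)) ∨
  (∃ n q, Real (.psp n q) S ∧ Ok fPSp n q (Nat.card S)) ∨
  (∃ n q, Real (.psu n q) S ∧ Ok fPSU n q (Nat.card S)) ∨
  (∃ n q, Real (.oodd n q) S ∧ Ok fOOdd n q (Nat.card S)) ∨
  (∃ n q, Real (.oplus n q) S ∧ Ok fOPlus n q (Nat.card S)) ∨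
  (∃ n q, Real (.ominus n q) S ∧ Ok fOMinus n q (Nat.card S)) ∨
  (∃ q, Real (.g2 q) S ∧ Ok fG2 0 q (Nat.card S)) ∨
  (∃ q, Real (.f4 q) S ∧ Ok fF4 0 q (Nat.card S)) ∨
  (∃ q, Real (.e6 q) S ∧ Ok fE6 0 q (Nat.card S)) ∨
  (∃ q, Real (.e7 q) S ∧ Ok fE7 0 q (Nat.card S)) ∨
  (∃ q, Real (.e8 q) S ∧ Ok fE8 0 q (Nat.card S)) ∨
  (∃ q, Real (.te6 q) S ∧ Ok fTE6 0 q (Nat.card S)) ∨
  (∃ q, Real (.td4 q) S ∧ Ok fTD4 0 q (Nat.card S)) ∨
  (∃ q, Real (.sz q) S ∧ Ok fSz 0 q (Nat.card S)) ∨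
  (∃ q, Real (.ree q) S ∧ Ok fRee 0 q (Nat.card S)) ∨
  (∃ q, Real (.tf4 q) S ∧ Ok fTF4 0 q (Nat.card S)) ∨
  (∃ x ∈ spor, Real x.1 S ∧ Nat.card S = x.2)

section

variable {D : Fam} {n q c p a M : ℕ}

theorem Ok.pow_dvd (h : Ok D n q c) : q ^ D.e n ∣ c := by
  have h1 := h.pow
  rw [← h.card] at h1
  exact Nat.Coprime.dvd_of_dvd_mul_left (Nat.Coprime.pow_left _ h.cop.symm) h1

/-- the members of the family `D` in characteristic `p` with `q ^ e n ∣ p ^ a` whose order is divisible by `M` -/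
def boxP (D : Fam) (p a M : ℕ) : List (ℕ × ℕ) :=
  (box [(p, a)] D.e D.lo).filter fun x => D.ok x.1 x.2 && D.num x.1 x.2 % (D.den x.1 x.2 * M) == 0

theorem Ok.mem_boxP (h : Ok D n q c) (hp : p.Prime) (hpq : p ∣ q) (ha : ¬ p ^ (a + 1) ∣ c) (hM : M ∣ c) :
    (n, q) ∈ boxP D p a M := by
  unfold boxP
  rw [List.mem_filter]
  constructor
  · obtain ⟨r, f, hr, hf, rfl⟩ := (isPrimePow_nat_iff q).1 h.pp
    have hpr : p = r := (Nat.prime_dvd_prime_iff_eq hp hr).1 (hp.dvd_of_dvd_pow hpq)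
    subst hpr
    refine mem_box (k := a) List.mem_cons_self hf h.lo h.le h.pos ?_
    by_contra hlt
    apply ha
    refine dvd_trans ?_ h.pow_dvd
    rw [← pow_mul]
    exact pow_dvd_pow p (by rw [mul_comm f]; omega)
  · rw [Bool.and_eq_true]
    refine ⟨h.ok, ?_⟩
    have h1 : D.den n q * M ∣ D.num n q := by
      rw [← h.card]
      exact Nat.mul_dvd_mul_left _ hM
    simpa using Nat.mod_eq_zero_of_dvd h1

/-- if the order of `(n, q)` is divisible by `M` then `num % (den * M) = 0` -/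
theorem Ok.mod_eq (h : Ok D n q c) (hM : M ∣ c) : D.num n q % (D.den n q * M) = 0 := by
  apply Nat.mod_eq_zero_of_dvd
  rw [← h.card]
  exact Nat.mul_dvd_mul_left _ hM

end

/-! ### the classical families -/

theorem mkOk (D : Fam) {n q c : ℕ} (hq : IsPrimePow q) (hlo : D.lo ≤ n) (hn : n ≤ D.e n + 1) (he1 : 1 ≤ D.e n)
    (hok : D.ok n q = true) (hc : D.den n q * c = D.num n q) (hpow : q ^ D.e n ∣ D.num n q)
    (hcop : (D.den n q).Coprime q) : Ok D n q c := ⟨hq, hlo, hn, he1, hok, hc, hpow, hcop⟩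

theorem psl_ok {F : Type} [Field F] [Fintype F] {n : ℕ} (hn : 2 ≤ n) (hn2 : n = 2 → 4 ≤ Fintype.card F)
    : Ok fPSL n (Fintype.card F) (Nat.card (Matrix.ProjectiveSpecialLinearGroup (Fin n) F)) := by
  have hq : 1 < Fintype.card F := Fintype.one_lt_card
  have hc : fPSL.den n (Fintype.card F) * Nat.card (Matrix.ProjectiveSpecialLinearGroup (Fin n) F) =
      fPSL.num n (Fintype.card F) := by
    have h := S0243.result (F := F) rfl n hn
    rw [Fin.prod_univ_eq_prod_range (fun i => Fintype.card F ^ n - Fintype.card F ^ i) n, ← prod_list] at h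
    change Nat.gcd n (Fintype.card F - 1) * (Fintype.card F - 1) * _ = glN n (Fintype.card F)
    rw [mul_assoc]
    exact h
  refine mkOk fPSL Fintype.isPrimePow_card_of_field hn (le_tri hn).1 (le_tri hn).2 ?_ hc
    (pow_dvd_glN n _) ?_
  · change (!(Nat.beq n 2 && Nat.blt (Fintype.card F) 4)) = true
    by_cases h2 : n = 2
    · have h4 := hn2 h2
      have : Nat.blt (Fintype.card F) 4 = false := by
        rw [← Bool.not_eq_true, Nat.blt_eq]
        omega
      rw [this, Bool.and_false]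
      rfl
    · have : Nat.beq n 2 = false := by
        rw [← Bool.not_eq_true, Nat.beq_eq]
        exact h2
      rw [this, Bool.false_and]
      rfl
  · change (Nat.gcd n (Fintype.card F - 1) * (Fintype.card F - 1)).Coprime (Fintype.card F)
    have h1 := cop_sub (q := Fintype.card F) (k := 1) (by omega) le_rfl
    rw [pow_one] at h1
    exact Nat.Coprime.mul_left (Nat.Coprime.coprime_dvd_left (Nat.gcd_dvd_right _ _) h1) h1

theorem psp_ok {F : Type} [Field F] [Fintype F] {m : ℕ} (hm : 2 ≤ m) (hm2 : m = 2 → 3 ≤ Fintype.card F)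
    : Ok fPSp m (Fintype.card F) (Nat.card (PSp m F)) := by
  have hq : 1 < Fintype.card F := Fintype.one_lt_card
  have hc : fPSp.den m (Fintype.card F) * Nat.card (PSp m F) = fPSp.num m (Fintype.card F) := by
    have h1 := S0245.result (F := F) rfl m
    have h2 := S0246.result (F := F) rfl m (by omega)
    have h3 := Subgroup.card_eq_card_quotient_mul_card_subgroup
      (Subgroup.center (Matrix.symplecticGroup (Fin m) F))
    rw [← prod_list (fun i => Fintype.card F ^ (2 * (i + 1)) - 1)] at h1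
    rw [h1, h2] at h3
    change Nat.gcd 2 (Fintype.card F - 1) * Nat.card (PSp m F) = Fintype.card F ^ (m ^ 2) * prB (Fintype.card F) m
    rw [mul_comm]
    exact h3.symm
  have hmm : m ≤ m ^ 2 := by nlinarith
  refine mkOk fPSp Fintype.isPrimePow_card_of_field hm (hmm.trans (Nat.le_succ _))
    (Nat.one_le_pow _ _ (by omega)) ?_ hc (Dvd.intro _ rfl) ?_
  · change (!(Nat.beq m 2 && Nat.blt (Fintype.card F) 3)) = true
    by_cases h2 : m = 2
    · have h4 := hm2 h2
      have : Nat.blt (Fintype.card F) 3 = false := by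
        rw [← Bool.not_eq_true, Nat.blt_eq]
        omega
      rw [this, Bool.and_false]
      rfl
    · have : Nat.beq m 2 = false := by
        rw [← Bool.not_eq_true, Nat.beq_eq]
        exact h2
      rw [this, Bool.false_and]
      rfl
  · change (Nat.gcd 2 (Fintype.card F - 1)).Coprime (Fintype.card F)
    have h1 := cop_sub (q := Fintype.card F) (k := 1) (by omega) le_rfl
    rw [pow_one] at h1
    exact Nat.Coprime.coprime_dvd_left (Nat.gcd_dvd_right _ _) h1

theorem psu_ok {F : Type} [Field F] [Fintype F] {n q : ℕ} (hF : Fintype.card F = q ^ 2) (hn : 3 ≤ n)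
    (hn2 : ¬ (n = 3 ∧ q = 2)) : Ok fPSU n q (Nat.card (PSU n F q)) := by
  have hq2 : IsPrimePow (q ^ 2) := hF ▸ Fintype.isPrimePow_card_of_field
  have hqp : IsPrimePow q := (isPrimePow_pow_iff (by norm_num)).1 hq2
  have hc : fPSU.den n q * Nat.card (PSU n F q) = fPSU.num n q := by
    have h := S0280.result hF n (by omega)
    rw [← prod_list] at h
    change Nat.gcd n (q + 1) * (q + 1) * _ = q ^ (n * (n - 1) / 2) * prU q n
    have h2 : prU q n = ((List.range n).map fun i => if Even i then q ^ (i + 1) + 1 else q ^ (i + 1) - 1).prod := by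
      unfold prU
      congr 1
      apply List.map_congr_left
      intro i _
      by_cases h : Even i
      · rw [if_pos h, if_pos]
        rw [Nat.beq_eq]
        exact Nat.even_iff.1 h
      · rw [if_neg h, if_neg]
        rw [Nat.beq_eq, ← Nat.even_iff]
        exact h
    rw [h2, mul_assoc]
    exact h
  refine mkOk fPSU hqp hn (le_tri (by omega)).1 (le_tri (by omega)).2 ?_ hc (Dvd.intro _ rfl) ?_
  · change (!(Nat.beq n 3 && Nat.beq q 2)) = true
    by_cases h2 : n = 3
    · have h4 : q ≠ 2 := fun h => hn2 ⟨h2, h⟩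
      have : Nat.beq q 2 = false := by
        rw [← Bool.not_eq_true, Nat.beq_eq]
        exact h4
      rw [this, Bool.and_false]
      rfl
    · have : Nat.beq n 3 = false := by
        rw [← Bool.not_eq_true, Nat.beq_eq]
        exact h2
      rw [this, Bool.false_and]
      rfl
  · change (Nat.gcd n (q + 1) * (q + 1)).Coprime q
    have h1 := cop_add (q := q) (k := 1) le_rfl
    rw [pow_one] at h1
    exact Nat.Coprime.mul_left (Nat.Coprime.coprime_dvd_left (Nat.gcd_dvd_right _ _) h1) h1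

theorem oodd_ok {F : Type} [Field F] [Fintype F] {m : ℕ} (hm : 3 ≤ m) (ho : Odd (Fintype.card F))
    : Ok fOOdd m (Fintype.card F) (Nat.card (POmega F (quadFormOdd m F))) := by
  have hc : fOOdd.den m (Fintype.card F) * Nat.card (POmega F (quadFormOdd m F)) = fOOdd.num m (Fintype.card F) := by
    have h := S0292.result (F := F) rfl ho m hm
    rw [← prod_list (fun i => Fintype.card F ^ (2 * (i + 1)) - 1)] at h
    exact h
  have hmm : m ≤ m ^ 2 := by nlinarith
  refine mkOk fOOdd Fintype.isPrimePow_card_of_field hm (hmm.trans (Nat.le_succ _))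
    (Nat.one_le_pow _ _ (by omega)) ?_ hc (Dvd.intro _ rfl) ?_
  · change Nat.beq (Fintype.card F % 2) 1 = true
    rw [Nat.beq_eq]
    exact Nat.odd_iff.1 ho
  · change (2 : ℕ).Coprime (Fintype.card F)
    exact (Nat.coprime_two_left).2 ho

theorem oplus_ok {F : Type} [Field F] [Fintype F] {m : ℕ} (hm : 4 ≤ m)
    : Ok fOPlus m (Fintype.card F) (Nat.card (POmega F (quadFormPlus m F))) := by
  have hq : 1 < Fintype.card F := Fintype.one_lt_card
  have hc : fOPlus.den m (Fintype.card F) * Nat.card (POmega F (quadFormPlus m F)) =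
      fOPlus.num m (Fintype.card F) := by
    have h := S0293.result (F := F) rfl m hm
    rw [← prod_list (fun i => Fintype.card F ^ (2 * (i + 1)) - 1)] at h
    change Nat.gcd 4 (Fintype.card F ^ m - 1) * _ =
      Fintype.card F ^ (m * (m - 1)) * ((Fintype.card F ^ m - 1) * prB (Fintype.card F) (m - 1))
    rw [← mul_assoc (Fintype.card F ^ (m * (m - 1)))]
    exact h
  have hmm : m ≤ m * (m - 1) := Nat.le_mul_of_pos_right _ (by omega)
  refine mkOk fOPlus Fintype.isPrimePow_card_of_field hm (hmm.trans (Nat.le_succ _))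
    (le_trans (by omega) hmm) rfl hc (Dvd.intro _ rfl) ?_
  change (Nat.gcd 4 (Fintype.card F ^ m - 1)).Coprime (Fintype.card F)
  exact Nat.Coprime.coprime_dvd_left (Nat.gcd_dvd_right _ _) (cop_sub (by omega) (by omega))

theorem ominus_ok {F : Type} [Field F] [Fintype F] {m : ℕ} (hm : 4 ≤ m) {a b : F}
    (hab : ∀ z₁ z₂ : F, z₁ ^ 2 + a * z₁ * z₂ + b * z₂ ^ 2 = 0 → z₁ = 0 ∧ z₂ = 0)
    : Ok fOMinus m (Fintype.card F) (Nat.card (POmega F (quadFormMinus (m - 1) F a b))) := by
  have hc : fOMinus.den m (Fintype.card F) * Nat.card (POmega F (quadFormMinus (m - 1) F a b)) =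
      fOMinus.num m (Fintype.card F) := by
    have h := S0294.result (F := F) rfl m hm a b hab
    rw [← prod_list (fun i => Fintype.card F ^ (2 * (i + 1)) - 1)] at h
    change Nat.gcd 4 (Fintype.card F ^ m + 1) * _ =
      Fintype.card F ^ (m * (m - 1)) * ((Fintype.card F ^ m + 1) * prB (Fintype.card F) (m - 1))
    rw [← mul_assoc (Fintype.card F ^ (m * (m - 1)))]
    exact h
  have hmm : m ≤ m * (m - 1) := Nat.le_mul_of_pos_right _ (by omega)
  refine mkOk fOMinus Fintype.isPrimePow_card_of_field hm (hmm.trans (Nat.le_succ _))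
    (le_trans (by omega) hmm) rfl hc (Dvd.intro _ rfl) ?_
  change (Nat.gcd 4 (Fintype.card F ^ m + 1)).Coprime (Fintype.card F)
  exact Nat.Coprime.coprime_dvd_left (Nat.gcd_dvd_right _ _) (cop_add (by omega))

/-- one-parameter families -/
theorem one_ok {a : ℕ} {f den : ℕ → ℕ} {ok : ℕ → Bool} {q c : ℕ} (ha : 1 ≤ a) (hq : IsPrimePow q)
    (hok : ok q = true) (hc : den q * c = q ^ a * f q) (hcop : (den q).Coprime q) : Ok (one a f den ok) 0 q c :=
  mkOk (one a f den ok) hq (Nat.zero_le _) (Nat.zero_le _) (by change 1 ≤ a + 1000 * 0; omega) hok hc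
    (by change q ^ (a + 1000 * 0) ∣ q ^ a * f q; rw [mul_zero, add_zero]; exact Dvd.intro _ rfl) hcop

/-- **Every known nonabelian simple group by name, with its order.** -/
theorem named (T : OrderTable.{u}) {S : Type u} [Group S] (h : IsKnownSimple' S)
    (hna : ¬ ∀ a b : S, a * b = b * a) : Named S := by
  have key : ∀ (g : Grp), g ∈ spor.map (fun x => x.1) → Real g S → ∃ x ∈ spor, Real x.1 S ∧ Nat.card S = x.2 := by
    intro g hg hr
    obtain ⟨x, hx, rfl⟩ := List.mem_map.1 hg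
    exact ⟨x, hx, hr, T.spor S x hx hr⟩
  have key' : ∀ (g : Grp), g ∈ spor.map (fun x => x.1) → Real g S → Named S := by
    intro g hg hr
    exact Or.inr (Or.inr (Or.inr (Or.inr (Or.inr (Or.inr (Or.inr (Or.inr (Or.inr (Or.inr (Or.inr (Or.inr (Or.inr
      (Or.inr (Or.inr (Or.inr (Or.inr (key g hg hr)))))))))))))))))
  rcases h with h | h | h | h | h | h | h | h | h | h
  · exfalso
    have : Fact (Nat.card S).Prime := ⟨h⟩
    have : IsCyclic S := isCyclic_of_prime_card (p := Nat.card S) rfl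
    exact hna fun a b => (IsCyclic.isMulCommutative (α := S)).is_comm.comm a b
  · obtain ⟨n, hn, ⟨e⟩⟩ := h
    exact Or.inl ⟨n, hn, ⟨e⟩, alt_card hn e⟩
  · obtain ⟨F, _, _, n, hn, hn2, ⟨e⟩⟩ := h
    have h1 := psl_ok (F := F) hn hn2
    rw [← Nat.card_congr e.toEquiv] at h1
    exact Or.inr (Or.inl ⟨n, Fintype.card F, ⟨F, inferInstance, inferInstance, rfl, ⟨e⟩⟩, h1⟩)
  · obtain ⟨F, _, _, n, hn, hn2, ⟨e⟩⟩ := h
    have h1 := psp_ok (F := F) hn hn2
    rw [← Nat.card_congr e.toEquiv] at h1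
    exact Or.inr (Or.inr (Or.inl ⟨n, Fintype.card F, ⟨F, inferInstance, inferInstance, rfl, ⟨e⟩⟩, h1⟩))
  · obtain ⟨F, _, _, n, q, hF, hn, hn2, ⟨e⟩⟩ := h
    have h1 := psu_ok (F := F) hF hn hn2
    rw [← Nat.card_congr e.toEquiv] at h1
    exact Or.inr (Or.inr (Or.inr (Or.inl ⟨n, q, ⟨F, inferInstance, inferInstance, hF, ⟨e⟩⟩, h1⟩)))
  · obtain ⟨F, _, _, n, hn, ho, ⟨e⟩⟩ := h
    have h1 := oodd_ok (F := F) hn ho
    rw [← Nat.card_congr e.toEquiv] at h1
    exact Or.inr (Or.inr (Or.inr (Or.inr (Or.inl ⟨n, Fintype.card F, ⟨F, inferInstance, inferInstance, rfl, ⟨e⟩⟩, h1⟩))))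
  · obtain ⟨F, _, _, n, hn, ⟨e⟩⟩ := h
    have h1 := oplus_ok (F := F) hn
    rw [← Nat.card_congr e.toEquiv] at h1
    exact Or.inr (Or.inr (Or.inr (Or.inr (Or.inr (Or.inl ⟨n, Fintype.card F, ⟨F, inferInstance, inferInstance, rfl, ⟨e⟩⟩, h1⟩)))))
  · obtain ⟨F, _, _, n, a, b, hn, hab, ⟨e⟩⟩ := h
    have h1 := ominus_ok (F := F) hn hab
    rw [← Nat.card_congr e.toEquiv] at h1
    exact Or.inr (Or.inr (Or.inr (Or.inr (Or.inr (Or.inr (Or.inl ⟨n, Fintype.card F, ⟨F, inferInstance, inferInstance, a, b, rfl, hab, ⟨e⟩⟩, h1⟩))))))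
  · rcases h with h | h | h | h | h | h | h | h | h | h | h
    · obtain ⟨F, _, _, hq, ⟨e⟩⟩ := h
      have h1 : Ok fG2 0 (Fintype.card F) (Nat.card ↥(Lie.chevG2.group F)) :=
        one_ok (by norm_num) Fintype.isPrimePow_card_of_field (by rw [Nat.ble_eq]; exact hq) (by rw [T.g2 F]; ring) (Nat.coprime_one_left _)
      rw [← Nat.card_congr e.toEquiv] at h1
      exact Or.inr (Or.inr (Or.inr (Or.inr (Or.inr (Or.inr (Or.inr (Or.inl ⟨Fintype.card F, ⟨F, inferInstance, inferInstance, rfl, ⟨e⟩⟩, h1⟩)))))))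
    · obtain ⟨F, _, _, ⟨e⟩⟩ := h
      have h1 : Ok fF4 0 (Fintype.card F) (Nat.card ↥(Lie.chevF4.group F)) :=
        one_ok (by norm_num) Fintype.isPrimePow_card_of_field rfl (by rw [T.f4 F _ rfl]; ring) (Nat.coprime_one_left _)
      rw [← Nat.card_congr e.toEquiv] at h1
      exact Or.inr (Or.inr (Or.inr (Or.inr (Or.inr (Or.inr (Or.inr (Or.inr (Or.inl ⟨Fintype.card F, ⟨F, inferInstance, inferInstance, rfl, ⟨e⟩⟩, h1⟩))))))))
    · obtain ⟨F, _, _, ⟨e⟩⟩ := h
      have h0 := cop_sub (q := Fintype.card F) (k := 1) Fintype.card_pos le_rfl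
      rw [pow_one] at h0
      have h1 : Ok fE6 0 (Fintype.card F) (Nat.card ↥(Lie.chevE6.group F)) :=
        one_ok (by norm_num) Fintype.isPrimePow_card_of_field rfl (by rw [T.e6 F _ rfl]; ring) (Nat.Coprime.coprime_dvd_left (Nat.gcd_dvd_right _ _) h0)
      rw [← Nat.card_congr e.toEquiv] at h1
      exact Or.inr (Or.inr (Or.inr (Or.inr (Or.inr (Or.inr (Or.inr (Or.inr (Or.inr (Or.inl ⟨Fintype.card F, ⟨F, inferInstance, inferInstance, rfl, ⟨e⟩⟩, h1⟩)))))))))
    · obtain ⟨F, _, _, ⟨e⟩⟩ := h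
      have h0 := cop_sub (q := Fintype.card F) (k := 1) Fintype.card_pos le_rfl
      rw [pow_one] at h0
      have h1 : Ok fE7 0 (Fintype.card F) (Nat.card ↥(Lie.chevE7.group F)) :=
        one_ok (by norm_num) Fintype.isPrimePow_card_of_field rfl (by rw [T.e7 F _ rfl]; ring) (Nat.Coprime.coprime_dvd_left (Nat.gcd_dvd_right _ _) h0)
      rw [← Nat.card_congr e.toEquiv] at h1
      exact Or.inr (Or.inr (Or.inr (Or.inr (Or.inr (Or.inr (Or.inr (Or.inr (Or.inr (Or.inr (Or.inl ⟨Fintype.card F, ⟨F, inferInstance, inferInstance, rfl, ⟨e⟩⟩, h1⟩))))))))))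
    · obtain ⟨F, _, _, ⟨e⟩⟩ := h
      have h1 : Ok fE8 0 (Fintype.card F) (Nat.card ↥(Lie.chevE8.group F)) :=
        one_ok (by norm_num) Fintype.isPrimePow_card_of_field rfl (by rw [T.e8 F _ rfl]; ring) (Nat.coprime_one_left _)
      rw [← Nat.card_congr e.toEquiv] at h1
      exact Or.inr (Or.inr (Or.inr (Or.inr (Or.inr (Or.inr (Or.inr (Or.inr (Or.inr (Or.inr (Or.inr (Or.inl ⟨Fintype.card F, ⟨F, inferInstance, inferInstance, rfl, ⟨e⟩⟩, h1⟩)))))))))))
    · obtain ⟨F, _, _, q, hq, hF, ⟨e⟩⟩ := h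
      have h0 := cop_add (q := q) (k := 1) le_rfl
      rw [pow_one] at h0
      have h1 : Ok fTE6 0 (q) (Nat.card ↥(Lie.twistedE6 F q)) :=
        one_ok (by norm_num) hq rfl (by rw [T.te6 F q hq hF]; ring) (Nat.Coprime.coprime_dvd_left (Nat.gcd_dvd_right _ _) h0)
      rw [← Nat.card_congr e.toEquiv] at h1
      exact Or.inr (Or.inr (Or.inr (Or.inr (Or.inr (Or.inr (Or.inr (Or.inr (Or.inr (Or.inr (Or.inr (Or.inr (Or.inl ⟨q, ⟨F, inferInstance, inferInstance, hF, ⟨e⟩⟩, h1⟩))))))))))))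
    · obtain ⟨F, _, _, q, hq, hF, ⟨e⟩⟩ := h
      have h1 : Ok fTD4 0 (q) (Nat.card ↥(Lie.twistedD4 F q)) :=
        one_ok (by norm_num) hq rfl (by rw [T.td4 F q hq hF]; ring) (Nat.coprime_one_left _)
      rw [← Nat.card_congr e.toEquiv] at h1
      exact Or.inr (Or.inr (Or.inr (Or.inr (Or.inr (Or.inr (Or.inr (Or.inr (Or.inr (Or.inr (Or.inr (Or.inr (Or.inr (Or.inl ⟨q, ⟨F, inferInstance, inferInstance, hF, ⟨e⟩⟩, h1⟩)))))))))))))
    · obtain ⟨F, _, _, m, hm, hF, ⟨e⟩⟩ := h
      have h1 : Ok fSz 0 (2 ^ (2 * m + 1)) (Nat.card ↥(Lie.Sz F (2 ^ (m + 1)))) :=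
        one_ok (by norm_num) (Nat.prime_two.isPrimePow.pow (by omega)) (ok_two hm) (by rw [T.sz F m hm hF]; ring) (Nat.coprime_one_left _)
      rw [← Nat.card_congr e.toEquiv] at h1
      exact Or.inr (Or.inr (Or.inr (Or.inr (Or.inr (Or.inr (Or.inr (Or.inr (Or.inr (Or.inr (Or.inr (Or.inr (Or.inr (Or.inr (Or.inl ⟨2 ^ (2 * m + 1), ⟨F, inferInstance, inferInstance, m, hm, hF, rfl, ⟨e⟩⟩, h1⟩))))))))))))))
    · obtain ⟨F, _, _, m, hm, hF, ⟨e⟩⟩ := h
      have h1 : Ok fRee 0 (3 ^ (2 * m + 1)) (Nat.card ↥(Lie.twistedG2 F (3 ^ m))) :=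
        one_ok (by norm_num) (Nat.prime_three.isPrimePow.pow (by omega)) (ok_three hm) (by rw [T.ree F m hm hF]; ring) (Nat.coprime_one_left _)
      rw [← Nat.card_congr e.toEquiv] at h1
      exact Or.inr (Or.inr (Or.inr (Or.inr (Or.inr (Or.inr (Or.inr (Or.inr (Or.inr (Or.inr (Or.inr (Or.inr (Or.inr (Or.inr (Or.inr (Or.inl ⟨3 ^ (2 * m + 1), ⟨F, inferInstance, inferInstance, m, hm, hF, rfl, ⟨e⟩⟩, h1⟩)))))))))))))))
    · obtain ⟨F, _, _, m, hm, hF, ⟨e⟩⟩ := h
      have h1 : Ok fTF4 0 (2 ^ (2 * m + 1)) (Nat.card ↥(Lie.twistedF4 F (2 ^ m))) :=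
        one_ok (by norm_num) (Nat.prime_two.isPrimePow.pow (by omega)) (ok_two hm) (by rw [T.tf4 F m hm hF]; ring) (Nat.coprime_one_left _)
      rw [← Nat.card_congr e.toEquiv] at h1
      exact Or.inr (Or.inr (Or.inr (Or.inr (Or.inr (Or.inr (Or.inr (Or.inr (Or.inr (Or.inr (Or.inr (Or.inr (Or.inr (Or.inr (Or.inr (Or.inr (Or.inl ⟨2 ^ (2 * m + 1), ⟨F, inferInstance, inferInstance, m, hm, hF, rfl, ⟨e⟩⟩, h1⟩))))))))))))))))
    · exact key' .tits (by decide) h
  · rcases h with h | h | h | h | h | h | h | h | h | h | h | h | h | h | h | h | h | h | h | h | h | h | h | h | h | h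
    · exact key' .m11 (by decide) h
    · exact key' .m12 (by decide) h
    · exact key' .m22 (by decide) h
    · exact key' .m23 (by decide) h
    · exact key' .m24 (by decide) h
    · exact key' .j1 (by decide) h
    · exact key' .j2 (by decide) h
    · exact key' .j3 (by decide) h
    · exact key' .j4 (by decide) h
    · exact key' .co1 (by decide) h
    · exact key' .co2 (by decide) h
    · exact key' .co3 (by decide) h
    · exact key' .mcl (by decide) h
    · exact key' .hs (by decide) h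
    · exact key' .suz (by decide) h
    · exact key' .he (by decide) h
    · exact key' .ru (by decide) h
    · exact key' .on (by decide) h
    · exact key' .ly (by decide) h
    · exact key' .fi22 (by decide) h
    · exact key' .fi23 (by decide) h
    · exact key' .fi24 (by decide) h
    · exact key' .hn (by decide) h
    · exact key' .th (by decide) h
    · exact key' .b (by decide) h
    · exact key' .m (by decide) h

end Cfsg.Agent.H245.Names
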