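import Cfsg.Agent.H245.RedTwo
import Cfsg.Agent.QTKE.Final
import Cfsg.Agent.OddHalf.LongSL.All
import Cfsg.Agent.TwoUniq.PSLRank
import Cfsg.Agent.RankThreeTwo.Orth

/-!
# Even characteristic: no long `SL₂(q)`, `q > 3` odd, in a normal subgroup (helper245)

* `not_big` : `G` of even characteristic has no normal subgroup of Lie type over a field of odd order `q > 3`, of Lie rank
  at least 2 or `U₃(q)` (`NI.LieBig`), nor `HasLong q`;
* `not_psl` : `L₂(q)`, `q` odd, has no subgroup isomorphic to `Ω₈⁺(2)`.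
-/

set_option autoImplicit false

namespace Cfsg.Agent.H245.NotBig

open Subgroup Cfsg

theorem subnormal_up {G : Type*} [Group G] {L : Subgroup G} (hL : L.Normal) {j : L} {J : Subgroup L}
    (hJ : J ≤ centralizer ({j} : Set L)) (hs : (J.subgroupOf (centralizer ({j} : Set L))).IsSubnormal) :
    ((J.map L.subtype).subgroupOf (centralizer ({(j : G)} : Set G))).IsSubnormal := by
  let C : Subgroup G := centralizer ({(j : G)} : Set G)
  let g : ↥(centralizer ({j} : Set L)) →* ↥(L.subgroupOf C) :=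
    { toFun := fun x => ⟨⟨((x : L) : G), by
        rw [mem_centralizer_singleton_iff]
        exact congrArg Subtype.val (mem_centralizer_singleton_iff.1 x.2)⟩, mem_subgroupOf.2 (x : L).2⟩
      map_one' := rfl
      map_mul' := fun _ _ => rfl }
  have hg : Function.Surjective g := by
    rintro ⟨⟨x, hx⟩, hxL⟩
    refine ⟨⟨⟨x, mem_subgroupOf.1 hxL⟩, ?_⟩, rfl⟩
    rw [mem_centralizer_singleton_iff]
    exact Subtype.ext (mem_centralizer_singleton_iff.1 hx)
  have h1 := hs.map hg
  have hn : (L.subgroupOf C).Normal := inferInstance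
  have h2 := Subgroup.IsSubnormal.trans' h1 hn.isSubnormal
  have h3 : ((J.map L.subtype).subgroupOf C) =
      ((J.subgroupOf (centralizer ({j} : Set L))).map g).map (L.subgroupOf C).subtype := by
    ext x
    constructor
    · intro hx
      obtain ⟨y, hy, hyx⟩ := mem_subgroupOf.1 hx
      exact ⟨g ⟨y, hJ hy⟩, ⟨⟨y, hJ hy⟩, mem_subgroupOf.2 hy, rfl⟩, Subtype.ext hyx⟩
    · rintro ⟨_, ⟨y, hy, rfl⟩, rfl⟩
      exact mem_subgroupOf.2 ⟨y, mem_subgroupOf.1 hy, rfl⟩
  rw [h3]
  exact h2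

/-- **No long `SL₂(q)`, `q > 3` odd.** -/
theorem not_long {G : Type*} [Group G] [Finite G] (hE : IsOfEvenCharacteristic G) {L : Subgroup G} (hL : L.Normal)
    {q : ℕ} (hq : 3 < q) (h : OddHalf.LongSL.HasLong q L) : False := by
  obtain ⟨j, J, hj, hjJ, hJ, hs, F, i1, i2, hF, ho, ⟨e⟩⟩ := h
  refine QTKE.LongEven.not_even (X := G) (j := (j : G)) (J := J.map L.subtype) ?_ ⟨j, hjJ, rfl⟩ ?_
    (subnormal_up hL hJ hs) (F := F) (by rw [hF]; exact ho) (by rw [hF]; exact hq)
    ((J.equivMapOfInjective L.subtype L.subtype_injective).symm.trans e) hE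
  · rw [Subgroup.orderOf_coe, hj]
  · rintro _ ⟨y, hy, rfl⟩
    rw [mem_centralizer_singleton_iff]
    exact congrArg Subtype.val (mem_centralizer_singleton_iff.1 (hJ hy))

theorem not_big {G : Type*} [Group G] [Finite G] (hE : IsOfEvenCharacteristic G) {L : Subgroup G} (hL : L.Normal)
    (h : OddHalf.NI.LieBig L) : False := by
  obtain ⟨q, hq, h⟩ := OddHalf.LongSL.hasLong_of_lieBig h
  exact not_long hE hL hq h

theorem not_psl {L : Type*} [Group L] {K : Type*} [Group K] {F : Type*} [Field F] [Fintype F]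
    {F' : Type*} [Field F'] [Fintype F'] [CharP F' 2] {m : ℕ} (hm : 4 ≤ m)
    (hK : Nonempty (K ≃* POmega F' (quadFormPlus m F'))) {i : K →* L} (hi : Function.Injective i)
    (ho : Odd (Fintype.card F)) (e : Nonempty (L ≃* Matrix.ProjectiveSpecialLinearGroup (Fin 2) F)) : False := by
  obtain ⟨e⟩ := e
  obtain ⟨e'⟩ := hK
  have h1 := TwoUniq.PSLRank.pRankLE (F := F) (QTKE.LongEven.two_ne_of_odd ho)
  have h2 : PRankAtLeast 2 3 (POmega F' (quadFormPlus m F')) := RankThreeTwo.Orth.plus hm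
  obtain ⟨A, hA1, hA2, hA3⟩ := h2
  let f : POmega F' (quadFormPlus m F') →* Matrix.ProjectiveSpecialLinearGroup (Fin 2) F :=
    e.toMonoidHom.comp (i.comp e'.symm.toMonoidHom)
  have hf : Function.Injective f := e.injective.comp (hi.comp e'.symm.injective)
  have h3 := h1 (A.map f) ?_ ?_
  · rw [card_map_of_injective hf] at h3
    have : Nat.card A ≤ 4 := h3
    have : 8 ≤ Nat.card A := hA3
    omega
  · refine ⟨⟨?_⟩⟩
    rintro ⟨_, a, ha, rfl⟩ ⟨_, b, hb, rfl⟩
    apply Subtype.ext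
    change f a * f b = f b * f a
    rw [← map_mul, ← map_mul]
    exact congrArg f (congrArg Subtype.val (hA1.is_comm.comm (⟨a, ha⟩ : A) ⟨b, hb⟩))
  · rintro _ ⟨a, ha, rfl⟩
    rw [← map_pow, hA2 a ha, map_one]

end Cfsg.Agent.H245.NotBig
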