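import Cfsg.Agent.H245.NotSuz
import Cfsg.Agent.H245.NotBig
import Cfsg.Agent.H245.ElimEight

/-!
# S2920 from the classification (helper245)
-/

set_option autoImplicit false

namespace Cfsg.Agent.H245.OmegaEight

open Subgroup Cfsg

universe u

theorem not_comm {K : Type*} [Group K] [Finite K] [IsSimpleGroup K] (h : Nat.card K = 174182400) :
    ¬ IsMulCommutative K := by
  intro hc
  obtain ⟨x, hx⟩ := exists_prime_orderOf_dvd_card' (G := K) 2 (by rw [h]; norm_num)
  have hn : (zpowers x).Normal := by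
    constructor
    intro n hn g
    rw [hc.is_comm.comm g n, mul_inv_cancel_right]
    exact hn
  rcases hn.eq_bot_or_eq_top with h1 | h1
  · rw [zpowers_eq_bot] at h1
    rw [h1, orderOf_one] at hx
    omega
  · have h2 : Nat.card (zpowers x) = Nat.card K := by rw [h1, card_top]
    rw [Nat.card_zpowers, hx, h] at h2
    omega

theorem main (T : OrdDiv.OrderTable.{u}) {G : Type u} [Group G] [Finite G]
    (hS : ∀ (X : Type u) [Group X] [Finite X] [IsSimpleGroup X], IsKnownSimple' X)
    (hG : IsOfParabolicCharacteristic 2 G) (H : Subgroup G) (hidx : ¬ 2 ∣ H.index)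
    (hF : (∃ (F : Type) (_ : Field F) (_ : Fintype F), Fintype.card F = 2 ∧
      Nonempty (↥(generalizedFittingSubgroup ↥H) ≃* POmega F (quadFormPlus 4 F))))
    (hN : Subgroup.normalizer (((generalizedFittingSubgroup ↥H).map H.subtype : Subgroup G) : Set G) = H) :
    (∃ (F : Type) (_ : Field F) (_ : Fintype F), Fintype.card F = 2 ∧
      Nonempty (↥(generalizedFittingSubgroup G) ≃* POmega F (quadFormPlus 4 F))) ∨
    (∃ (F : Type) (_ : Field F) (_ : Fintype F), Fintype.card F = 3 ∧
      Nonempty (↥(generalizedFittingSubgroup G) ≃* POmega F (quadFormPlus 4 F))) := by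
  obtain ⟨F, i1, i2, hF2, he⟩ := hF
  have hc2 : CharP F 2 := by
    obtain ⟨p, hp⟩ := CharP.exists F
    obtain ⟨n, hp1, hn⟩ := FiniteField.card F p
    rw [hF2] at hn
    have h1 : p ∣ 2 := by rw [hn]; exact dvd_pow_self p n.ne_zero
    have h2 : p = 2 := (Nat.prime_dvd_prime_iff_eq hp1 Nat.prime_two).1 h1
    rwa [h2] at hp
  have hsP : IsSimpleGroup (POmega F (quadFormPlus 4 F)) := Cfsg.Agent.S0296.result 4 le_rfl
  have hs : IsSimpleGroup ↥(generalizedFittingSubgroup ↥H) := by
    obtain ⟨e⟩ := he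
    exact e.isSimpleGroup_congr.2 hsP
  have hcard := NotSuz.card_K hF2 he
  have hna := not_comm hcard
  obtain ⟨h1, h2, h3, h4, h5⟩ := RedTwo.main hG H hidx hs hna (by rw [hcard]; norm_num) hN
  let K : Subgroup G := (generalizedFittingSubgroup ↥H).map H.subtype
  let eK := (generalizedFittingSubgroup ↥H).equivMapOfInjective H.subtype H.subtype_injective
  have heK : Nonempty (K ≃* POmega F (quadFormPlus 4 F)) := he.map fun e => eK.symm.trans e
  have hcK : Nat.card K = 174182400 := NotSuz.card_K hF2 heK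
  have hidx' : ¬ 2 ∣ (normalizer (K : Set G)).index := by rw [hN]; exact hidx
  have hLn : (generalizedFittingSubgroup G).Normal := Lib.GenFitting.genFitting_normal
  have h14 : ¬ 2 ^ 14 ∣ Nat.card ↥(generalizedFittingSubgroup G) := fun h =>
    NotSuz.not_two_pow hF2 heK h5 hidx' (h.trans (card_subgroup_dvd_card _))
  have hM : 174182400 ∣ Nat.card ↥(generalizedFittingSubgroup G) := by
    rw [← hcK]
    exact card_dvd_of_le h3
  rcases ElimEight.elim T (hS _) (fun h => h2 ⟨⟨h⟩⟩) hM h14 with h | h | h | h | h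
  · exact Or.inl h
  · exact Or.inr h
  · exact (NotSuz.not_suz hF2 heK h5 hidx' hLn h3 h).elim
  · exact (NotBig.not_big (RedTwo.even_of_parabolic hG) hLn h).elim
  · obtain ⟨F', i3, i4, ho, -, e⟩ := h
    exact (NotBig.not_psl (le_refl 4) heK (i := inclusion h3) (inclusion_injective h3) ho e).elim

end Cfsg.Agent.H245.OmegaEight
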