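import Mathlib

/-!
# Pronormal subgroups of transitive groups: fixed points (S3399), elementary part
-/

set_option autoImplicit false

namespace Cfsg.Agent.H245.Pron

open MulAction

variable {G Ω : Type} [Group G] [MulAction G Ω]

/-- the fixed points of a subgroup -/
def Fx (K : Subgroup G) (Ω : Type) [MulAction G Ω] : Set Ω := {a | ∀ k ∈ K, k • a = a}

theorem mem_Fx {K : Subgroup G} {a : Ω} : a ∈ Fx K Ω ↔ ∀ k ∈ K, k • a = a := Iff.rfl

/-- pronormal -/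
def Pro (K : Subgroup G) : Prop :=
  ∀ g : G, ∃ w ∈ K ⊔ K.map (MulAut.conj g).toMonoidHom, w⁻¹ * g ∈ Subgroup.normalizer (K : Set G)

theorem mem_cj {K : Subgroup G} {g x : G} : x ∈ K.map (MulAut.conj g).toMonoidHom ↔ g⁻¹ * x * g ∈ K := by
  rw [Subgroup.mem_map]
  constructor
  · rintro ⟨k, hk, rfl⟩
    simpa [mul_assoc] using hk
  · intro h
    exact ⟨_, h, by simp [mul_assoc]⟩

theorem cj_mem {K : Subgroup G} {g k : G} (hk : k ∈ K) : g * k * g⁻¹ ∈ K.map (MulAut.conj g).toMonoidHom :=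
  mem_cj.2 (by simpa [mul_assoc] using hk)

theorem Pro.of_eq {K : Subgroup G} (h : ∀ g : G, ∃ w ∈ K ⊔ K.map (MulAut.conj g).toMonoidHom,
    K.map (MulAut.conj w).toMonoidHom = K.map (MulAut.conj g).toMonoidHom) : Pro K := by
  intro g
  obtain ⟨w, hw, he⟩ := h g
  refine ⟨w, hw, Subgroup.mem_normalizer_iff.2 fun k => ?_⟩
  have h1 : g * k * g⁻¹ ∈ K.map (MulAut.conj w).toMonoidHom ↔ g * k * g⁻¹ ∈ K.map (MulAut.conj g).toMonoidHom := by
    rw [he]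
  rw [mem_cj, mem_cj] at h1
  have h2 : g⁻¹ * (g * k * g⁻¹) * g = k := by group
  rw [h2] at h1
  rw [← h1]
  have h3 : w⁻¹ * (g * k * g⁻¹) * w = w⁻¹ * g * k * (w⁻¹ * g)⁻¹ := by group
  rw [h3]

theorem Pro.use {K L : Subgroup G} (h : Pro K) (hL : K ≤ L) {g : G} (hg : ∀ k ∈ K, g * k * g⁻¹ ∈ L) :
    ∃ w ∈ L, w⁻¹ * g ∈ Subgroup.normalizer (K : Set G) := by
  obtain ⟨w, hw, hn⟩ := h g
  refine ⟨w, ?_, hn⟩
  refine (sup_le hL ?_) hw
  rw [Subgroup.map_le_iff_le_comap]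
  intro k hk
  exact hg k hk

theorem smul_mem {K : Subgroup G} {n : G} (hn : n ∈ Subgroup.normalizer (K : Set G)) {a : Ω} (ha : a ∈ Fx K Ω) :
    n • a ∈ Fx K Ω := by
  intro k hk
  have h1 := Subgroup.mem_normalizer_iff.1 (inv_mem hn) k
  rw [inv_inv] at h1
  have h2 := ha _ (h1.1 hk)
  calc k • n • a = n • ((n⁻¹ * k * n) • a) := by simp [← mul_smul, mul_assoc]
    _ = n • a := by rw [h2]

theorem smul_mem_iff {K : Subgroup G} {n : G} (hn : n ∈ Subgroup.normalizer (K : Set G)) {a : Ω} :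
    n • a ∈ Fx K Ω ↔ a ∈ Fx K Ω := by
  refine ⟨fun h => ?_, smul_mem hn⟩
  have := smul_mem (inv_mem hn) h
  rwa [inv_smul_smul] at this

/-- the subgroup generated by the conjugates `g K g⁻¹`, `g ∈ S` -/
def Lg (K : Subgroup G) (S : Set G) : Subgroup G := Subgroup.closure {y | ∃ g ∈ S, ∃ k ∈ K, y = g * k * g⁻¹}

theorem cj_mem_Lg {K : Subgroup G} {S : Set G} {g k : G} (hg : g ∈ S) (hk : k ∈ K) : g * k * g⁻¹ ∈ Lg K S :=
  Subgroup.subset_closure ⟨g, hg, k, hk, rfl⟩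

theorem le_Lg {K : Subgroup G} {S : Set G} (h1 : (1 : G) ∈ S) : K ≤ Lg K S := by
  intro k hk
  have := cj_mem_Lg h1 hk
  simpa using this

theorem Lg_le {K : Subgroup G} {S : Set G} {X : Subgroup G} (h : ∀ g ∈ S, ∀ k ∈ K, g * k * g⁻¹ ∈ X) : Lg K S ≤ X := by
  rw [Lg, Subgroup.closure_le]
  rintro y ⟨g, hg, k, hk, rfl⟩
  exact h g hg k hk

theorem Lg_fix {K : Subgroup G} {S : Set G} {a : Ω} (h : ∀ g ∈ S, g⁻¹ • a ∈ Fx K Ω) : ∀ l ∈ Lg K S, l • a = a := by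
  intro l hl
  have : Lg K S ≤ stabilizer G a := by
    apply Lg_le
    intro g hg k hk
    rw [mem_stabilizer_iff]
    have := h g hg k hk
    rw [mul_smul, mul_smul, this, smul_inv_smul]
  exact this hl

theorem Lg_inv {K : Subgroup G} {S : Set G} {Δ : Set Ω} (h : ∀ g ∈ S, ∀ k ∈ K, ∀ x ∈ Δ, (g * k * g⁻¹) • x ∈ Δ) :
    ∀ l ∈ Lg K S, ∀ x ∈ Δ, l • x ∈ Δ := by
  intro l hl
  induction hl using Subgroup.closure_induction_left with
  | one => intro x hx; rwa [one_smul]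
  | mul_left y hy z hz ih =>
    obtain ⟨g, hg, k, hk, rfl⟩ := hy
    intro x hx
    rw [mul_smul]
    exact h g hg k hk _ (ih x hx)
  | inv_mul_cancel y hy z hz ih =>
    obtain ⟨g, hg, k, hk, rfl⟩ := hy
    intro x hx
    rw [mul_smul, show (g * k * g⁻¹)⁻¹ = g * k⁻¹ * g⁻¹ by group]
    exact h g hg _ (inv_mem hk) _ (ih x hx)

/-- a point moved by `L` gives a point of the `L`-orbit moved by `K` -/
theorem exists_moved {K : Subgroup G} (hK : Pro K) {S : Set G} (h1 : (1 : G) ∈ S) {x : Ω}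
    (hx : ∃ g ∈ S, g⁻¹ • x ∉ Fx K Ω) : ∃ w ∈ Lg K S, w • x ∉ Fx K Ω := by
  obtain ⟨g, hg, hgx⟩ := hx
  obtain ⟨w, hw, hn⟩ := hK.use (le_Lg h1) (fun k hk => cj_mem_Lg hg hk)
  refine ⟨w⁻¹, inv_mem hw, fun hcon => hgx ?_⟩
  have := smul_mem (inv_mem hn) hcon
  simpa [← mul_smul] using this

theorem Pro.subgroupOf {K L : Subgroup G} (hK : Pro K) (hL : K ≤ L) : Pro (K.subgroupOf L) := by
  intro l
  obtain ⟨w, hw, hn⟩ := hK (l : G)
  have h1 : (K.subgroupOf L ⊔ (K.subgroupOf L).map (MulAut.conj l).toMonoidHom).map L.subtype =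
      K ⊔ K.map (MulAut.conj (l : G)).toMonoidHom := by
    rw [Subgroup.map_sup]
    congr 1
    · rw [Subgroup.subgroupOf_map_subtype, inf_eq_left.2 hL]
    · ext x
      rw [Subgroup.mem_map]
      constructor
      · rintro ⟨y, hy, rfl⟩
        rw [mem_cj, Subgroup.mem_subgroupOf] at hy
        rw [mem_cj]
        exact hy
      · intro hx
        rw [mem_cj] at hx
        have hxL : x ∈ L := by
          have := L.mul_mem (L.mul_mem l.2 (hL hx)) (L.inv_mem l.2)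
          simpa [mul_assoc] using this
        refine ⟨⟨x, hxL⟩, ?_, rfl⟩
        rw [mem_cj, Subgroup.mem_subgroupOf]
        exact hx
  rw [← h1, Subgroup.mem_map] at hw
  obtain ⟨w', hw', rfl⟩ := hw
  refine ⟨w', hw', ?_⟩
  rw [Subgroup.mem_normalizer_iff] at hn ⊢
  intro x
  rw [Subgroup.mem_subgroupOf, Subgroup.mem_subgroupOf]
  exact hn x

theorem Pro.map {K : Subgroup G} (hK : Pro K) {H : Type} [Group H] (φ : G →* H) (hφ : Function.Surjective φ) :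
    Pro (K.map φ) := by
  intro h
  obtain ⟨g, rfl⟩ := hφ h
  obtain ⟨w, hw, hn⟩ := hK g
  refine ⟨φ w, ?_, ?_⟩
  · have h1 : (K ⊔ K.map (MulAut.conj g).toMonoidHom).map φ =
        K.map φ ⊔ (K.map φ).map (MulAut.conj (φ g)).toMonoidHom := by
      rw [Subgroup.map_sup]
      congr 1
      rw [Subgroup.map_map, Subgroup.map_map]
      congr 1
      ext x
      simp
    rw [← h1]
    exact Subgroup.mem_map_of_mem φ hw
  · rw [← map_inv, ← map_mul]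
    rw [Subgroup.mem_normalizer_iff] at hn ⊢
    have key : ∀ n : G, (∀ k, k ∈ K → n * k * n⁻¹ ∈ K) → ∀ x, x ∈ K.map φ → φ n * x * (φ n)⁻¹ ∈ K.map φ := by
      rintro n h1 x ⟨k, hk, rfl⟩
      refine ⟨n * k * n⁻¹, h1 k hk, by simp⟩
    intro x
    refine ⟨key _ (fun k hk => (hn k).1 hk) x, fun hx => ?_⟩
    have h2 : ∀ k, k ∈ K → (w⁻¹ * g)⁻¹ * k * (w⁻¹ * g)⁻¹⁻¹ ∈ K := by
      intro k hk
      rw [hn]
      have : w⁻¹ * g * ((w⁻¹ * g)⁻¹ * k * (w⁻¹ * g)⁻¹⁻¹) * (w⁻¹ * g)⁻¹ = k := by group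
      rwa [this]
    have h3 := key _ h2 _ hx
    have h4 : φ (w⁻¹ * g)⁻¹ * (φ (w⁻¹ * g) * x * (φ (w⁻¹ * g))⁻¹) * (φ (w⁻¹ * g)⁻¹)⁻¹ = x := by
      rw [map_inv]; group
    rwa [h4] at h3

/-- the bound for all actions of degree `m` -/
def Bd (m : ℕ) : Prop :=
  ∀ (G Ω : Type) [Group G] [MulAction G Ω] [Finite G] [Finite Ω] [IsPretransitive G Ω] (K : Subgroup G),
    Pro K → Nat.card Ω = m → (∃ x : Ω, x ∉ Fx K Ω) → 2 * (Fx K Ω).ncard + 1 ≤ m

/-- one orbit -/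
theorem orbit_bd [Finite G] [Finite Ω] {K : Subgroup G} (hK : Pro K) {S : Set G} (h1 : (1 : G) ∈ S) {x : Ω}
    (hx : ∃ g ∈ S, g⁻¹ • x ∉ Fx K Ω) (hB : Bd (orbit (Lg K S) x).ncard) :
    2 * (Fx K Ω ∩ orbit (Lg K S) x).ncard + 1 ≤ (orbit (Lg K S) x).ncard := by
  classical
  have hF : ∀ y : orbit (Lg K S) x, y ∈ Fx (K.subgroupOf (Lg K S)) (orbit (Lg K S) x) ↔ (y : Ω) ∈ Fx K Ω := by
    intro y
    constructor
    · intro h k hk
      have := h ⟨k, le_Lg h1 hk⟩ (Subgroup.mem_subgroupOf.2 hk)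
      exact congrArg Subtype.val this
    · intro h k hk
      have := h (k : G) (Subgroup.mem_subgroupOf.1 hk)
      exact Subtype.ext this
  obtain ⟨w, hw, hwx⟩ := exists_moved hK h1 hx
  have h2 := hB (Lg K S) (orbit (Lg K S) x) (K.subgroupOf (Lg K S)) (hK.subgroupOf (le_Lg h1))
    (Nat.card_coe_set_eq _) ⟨⟨w • x, ⟨⟨w, hw⟩, rfl⟩⟩, fun h => hwx ((hF _).1 h)⟩
  have h3 : (Fx (K.subgroupOf (Lg K S)) (orbit (Lg K S) x)).ncard = (Fx K Ω ∩ orbit (Lg K S) x).ncard := by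
    rw [← Set.ncard_image_of_injective _ Subtype.val_injective]
    congr 1
    ext y
    constructor
    · rintro ⟨z, hz, rfl⟩
      exact ⟨(hF z).1 hz, z.2⟩
    · rintro ⟨hy1, hy2⟩
      exact ⟨⟨y, hy2⟩, (hF _).2 hy1, rfl⟩
  rw [h3] at h2
  exact h2

/-- invariant sets -/
theorem set_bd [Finite G] [Finite Ω] {K : Subgroup G} (hK : Pro K) {S : Set G} (h1 : (1 : G) ∈ S) {n : ℕ}
    (hB : ∀ m < n, Bd m) :
    ∀ (N : ℕ) (Δ : Set Ω), Δ.ncard = N → Δ.Nonempty → (∀ l ∈ Lg K S, ∀ x ∈ Δ, l • x ∈ Δ) →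
      (∀ x ∈ Δ, ∃ g ∈ S, g⁻¹ • x ∉ Fx K Ω) → (∀ x ∈ Δ, (orbit (Lg K S) x).ncard < n) →
      2 * (Fx K Ω ∩ Δ).ncard + 1 ≤ Δ.ncard := by
  intro N
  induction N using Nat.strong_induction_on with
  | _ N ih =>
    intro Δ hN hne hinv hmv hsm
    obtain ⟨x, hx⟩ := hne
    have hsub : orbit (Lg K S) x ⊆ Δ := by
      rintro y ⟨l, rfl⟩
      exact hinv l l.2 x hx
    have h2 := orbit_bd hK h1 (hmv x hx) (hB _ (hsm x hx))
    have hor : (orbit (Lg K S) x).Nonempty := ⟨x, mem_orbit_self x⟩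
    by_cases hE : (Δ \ orbit (Lg K S) x).Nonempty
    · have h3 : (Δ \ orbit (Lg K S) x).ncard + (orbit (Lg K S) x).ncard = Δ.ncard :=
        Set.ncard_sdiff_add_ncard_of_subset hsub
      have h4 : 0 < (orbit (Lg K S) x).ncard := (Set.ncard_pos (Set.toFinite _)).2 hor
      have h5 := ih (Δ \ orbit (Lg K S) x).ncard (by omega) _ rfl hE ?_ (fun y hy => hmv y hy.1)
        (fun y hy => hsm y hy.1)
      · have h6 : (Fx K Ω ∩ Δ).ncard = (Fx K Ω ∩ (Δ \ orbit (Lg K S) x)).ncard +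
            (Fx K Ω ∩ orbit (Lg K S) x).ncard := by
          rw [← Set.ncard_union_eq]
          · congr 1
            rw [← Set.inter_union_distrib_left, Set.sdiff_union_of_subset hsub]
          · rw [Set.disjoint_left]
            rintro y ⟨-, hy⟩ ⟨-, hy'⟩
            exact hy.2 hy'
        omega
      · rintro l hl y ⟨hy1, hy2⟩
        refine ⟨hinv l hl y hy1, fun hcon => hy2 ?_⟩
        have h7 : (⟨l, hl⟩ : Lg K S) • y ∈ orbit (Lg K S) x := hcon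
        rwa [← orbit_eq_iff, orbit_smul, orbit_eq_iff] at h7
    · have h3 : Δ = orbit (Lg K S) x := by
        refine Set.Subset.antisymm ?_ hsub
        rw [← Set.sdiff_eq_empty]
        exact Set.not_nonempty_iff_eq_empty.1 hE
      rw [h3]
      exact h2

end Cfsg.Agent.H245.Pron
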