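import Cfsg.Agent.H245.Pron

/-!
# Pronormal subgroups of transitive groups: blocks, double transitivity
-/

set_option autoImplicit false
set_option linter.unusedSectionVars false

namespace Cfsg.Agent.H245.Pron

open MulAction
open scoped Pointwise

variable {G Ω : Type} [Group G] [MulAction G Ω]

/-- the set of the `g` with `x` fixed by `g K g⁻¹` -/
def sg (K : Subgroup G) (x : Ω) : Set G := {g | g⁻¹ • x ∈ Fx K Ω}

theorem sg_smul (K : Subgroup G) (h : G) (x : Ω) : sg K (h • x) = h • sg K x := by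
  ext g
  rw [Set.mem_smul_set_iff_inv_smul_mem]
  simp only [sg, Set.mem_ofPred_eq, smul_eq_mul, mul_inv_rev, inv_inv, mul_smul]

theorem block_bd [Finite G] [Finite Ω] [IsPretransitive G Ω] {K : Subgroup G} {n : ℕ} (hK : Pro K)
    (hn : Nat.card Ω = n)
    (hB : ∀ m < n, Bd m) (hN : ∀ x y : Ω, ∃ l ∈ Lg K (Set.univ : Set G), l • x = y)
    (hmv : ∃ x : Ω, x ∉ Fx K Ω) (h2 : n ≤ 2 * (Fx K Ω).ncard + 1) {b c : Ω} (hb : b ∈ Fx K Ω)
    (hc : ∀ g : G, g⁻¹ • b ∈ Fx K Ω → g⁻¹ • c ∈ Fx K Ω) : c = b := by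
  classical
  by_contra hcb
  have := Fintype.ofFinite Ω
  let Q := orbit G (sg K b)
  have hQf : Finite Q := inferInstance
  have := Fintype.ofFinite Q
  have hx : ∀ x : Ω, sg K x ∈ orbit G (sg K b) := by
    intro x
    obtain ⟨h, rfl⟩ := exists_smul_eq G b x
    rw [sg_smul]
    exact ⟨h, rfl⟩
  let π : Ω → Q := fun x => ⟨sg K x, hx x⟩
  have hπ : ∀ (g : G) (x : Ω), π (g • x) = g • π x := fun g x => Subtype.ext (sg_smul K g x)
  -- the fibres
  let m := (Finset.univ.filter fun x : Ω => π x = π b).card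
  have hm : ∀ q : Q, (Finset.univ.filter fun x : Ω => π x = q).card = m := by
    intro q
    obtain ⟨h, hh⟩ := exists_smul_eq G (π b) q
    subst hh
    refine Finset.card_bij' (fun x _ => h⁻¹ • x) (fun x _ => h • x) ?_ ?_ ?_ ?_
    · intro x hx
      rw [Finset.mem_filter] at hx ⊢
      refine ⟨Finset.mem_univ _, ?_⟩
      rw [hπ, hx.2, inv_smul_smul]
    · intro x hx
      rw [Finset.mem_filter] at hx ⊢
      refine ⟨Finset.mem_univ _, ?_⟩
      rw [hπ, hx.2]
    · intro x _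
      exact smul_inv_smul h x
    · intro x _
      exact inv_smul_smul h x
  have hcard : n = m * Fintype.card Q := by
    have h1 := Finset.card_eq_sum_card_fiberwise (f := π) (s := Finset.univ) (t := Finset.univ)
      (fun _ _ => Finset.mem_univ _)
    simp only [hm, Finset.sum_const, Finset.card_univ, smul_eq_mul] at h1
    rw [← hn, Nat.card_eq_fintype_card, h1, mul_comm]
  have hbc : π c = π b := by
    obtain ⟨h, rfl⟩ := exists_smul_eq G b c
    apply Subtype.ext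
    show sg K (h • b) = sg K b
    symm
    refine Set.eq_of_subset_of_ncard_le hc ?_ (Set.toFinite _)
    rw [sg_smul, Set.ncard_smul_set]
  have hm2 : 2 ≤ m := by
    have h1 : ({b, c} : Finset Ω) ⊆ Finset.univ.filter fun x : Ω => π x = π b := by
      intro x hx
      rw [Finset.mem_insert, Finset.mem_singleton] at hx
      rw [Finset.mem_filter]
      refine ⟨Finset.mem_univ _, ?_⟩
      rcases hx with rfl | rfl
      · rfl
      · exact hbc
    have h3 := Finset.card_le_card h1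
    rwa [Finset.card_pair (Ne.symm hcb)] at h3
  have hQ1 : 1 ≤ Fintype.card Q := Fintype.card_pos_iff.2 ⟨π b⟩
  have hQn : Fintype.card Q < n := by
    rw [hcard]; nlinarith
  have hmvQ : ∃ q : Q, q ∉ Fx K Q := by
    by_contra hcon
    push Not at hcon
    obtain ⟨y, hy⟩ := hmv
    obtain ⟨l, hl, rfl⟩ := hN b y
    apply hy
    have h1 : l • π b = π b := Lg_fix (fun g _ => hcon _) l hl
    have h3 : sg K (l • b) = sg K b := congrArg Subtype.val ((hπ l b).trans h1)
    have h4 : (1 : G) ∈ sg K b := by simpa [sg] using hb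
    rw [← h3] at h4
    simpa [sg] using h4
  have hφ := hB _ hQn G Q K hK Nat.card_eq_fintype_card hmvQ
  have hle : (Fx K Ω).ncard ≤ m * (Fx K Q).ncard := by
    rw [Set.ncard_eq_toFinset_card' (Fx K Ω), Set.ncard_eq_toFinset_card' (Fx K Q)]
    refine (Finset.card_le_mul_card_image (f := π) (Fx K Ω).toFinset m ?_).trans ?_
    · intro q _
      rw [← hm q]
      exact Finset.card_le_card (Finset.filter_subset_filter _ (Finset.subset_univ _))
    · refine Nat.mul_le_mul_left _ (Finset.card_le_card ?_)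
      intro q hq
      rw [Finset.mem_image] at hq
      obtain ⟨x, hx, rfl⟩ := hq
      rw [Set.mem_toFinset] at hx ⊢
      intro k hk
      rw [← hπ, hx k hk]
  have h5 : m * (2 * (Fx K Q).ncard + 1) ≤ m * Fintype.card Q := Nat.mul_le_mul_left _ hφ
  nlinarith

/-- restriction to an orbit -/
theorem mem_Fx_orbit {K L : Subgroup G} (hL : K ≤ L) {x : Ω} (y : orbit L x) :
    y ∈ Fx (K.subgroupOf L) (orbit L x) ↔ (y : Ω) ∈ Fx K Ω := by
  constructor
  · intro h k hk
    have := h ⟨k, hL hk⟩ (Subgroup.mem_subgroupOf.2 hk)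
    exact congrArg Subtype.val this
  · intro h k hk
    have := h (k : G) (Subgroup.mem_subgroupOf.1 hk)
    exact Subtype.ext this

theorem ncard_Fx_orbit {K L : Subgroup G} (hL : K ≤ L) (x : Ω) :
    (Fx (K.subgroupOf L) (orbit L x)).ncard = (Fx K Ω ∩ orbit L x).ncard := by
  rw [← Set.ncard_image_of_injective _ Subtype.val_injective]
  congr 1
  ext y
  constructor
  · rintro ⟨z, hz, rfl⟩
    exact ⟨(mem_Fx_orbit hL z).1 hz, z.2⟩
  · rintro ⟨hy1, hy2⟩
    exact ⟨⟨y, hy2⟩, (mem_Fx_orbit hL _).2 hy1, rfl⟩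

/-- the group generated by the conjugates of `K` in `L` is `L` -/
theorem Lg_subgroupOf {K : Subgroup G} (hK : Pro K) {S : Set G} (h1 : (1 : G) ∈ S) (l : Lg K S) :
    l ∈ Lg (K.subgroupOf (Lg K S)) (Set.univ : Set (Lg K S)) := by
  have h : Lg K S ≤ (Lg (K.subgroupOf (Lg K S)) (Set.univ : Set (Lg K S))).map (Lg K S).subtype := by
    apply Lg_le
    intro g hg k hk
    obtain ⟨w, hw, hn⟩ := hK.use (le_Lg h1) (fun k hk => cj_mem_Lg hg hk)
    have h3 := (Subgroup.mem_normalizer_iff.1 hn k).1 hk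
    refine ⟨⟨w, hw⟩ * ⟨w⁻¹ * g * k * (w⁻¹ * g)⁻¹, le_Lg h1 h3⟩ * ⟨w, hw⟩⁻¹, ?_, ?_⟩
    · exact cj_mem_Lg (Set.mem_univ _) (Subgroup.mem_subgroupOf.2 h3)
    · simp [mul_assoc]
  obtain ⟨l', hl', he⟩ := h l.2
  have : l' = l := Subtype.ext he
  rwa [this] at hl'

section

variable [Finite G] [Finite Ω] [IsPretransitive G Ω] {K : Subgroup G} {n : ℕ}

/-- the normal closure is transitive -/
theorem step_trans (hK : Pro K) (hn : Nat.card Ω = n) (hB : ∀ m < n, Bd m) (hmv : ∃ x : Ω, x ∉ Fx K Ω)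
    (h2 : n ≤ 2 * (Fx K Ω).ncard) (x y : Ω) : ∃ l ∈ Lg K (Set.univ : Set G), l • x = y := by
  by_contra hcon
  push Not at hcon
  have h3 := set_bd hK (Set.mem_univ 1) hB _ (Set.univ : Set Ω) rfl ⟨x, trivial⟩ (fun _ _ _ _ => trivial) ?_ ?_
  · rw [Set.inter_univ, Set.ncard_univ, hn] at h3
    omega
  · intro z _
    obtain ⟨w, hw⟩ := hmv
    obtain ⟨g, hg⟩ := exists_smul_eq G w z
    refine ⟨g, trivial, ?_⟩
    rw [← hg, inv_smul_smul]
    exact hw
  · intro z _
    rw [← hn, ← Set.ncard_univ]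
    refine Set.ncard_lt_ncard ?_ (Set.toFinite _)
    rw [Set.ssubset_univ_iff]
    intro hz
    have hx : x ∈ orbit (Lg K (Set.univ : Set G)) z := by rw [hz]; trivial
    have hy : y ∈ orbit (Lg K (Set.univ : Set G)) z := by rw [hz]; trivial
    rw [← orbit_eq_iff.2 hx] at hy
    obtain ⟨l, hl⟩ := hy
    exact hcon l l.2 hl

/-- the group generated by the conjugates of `K` fixing `a` -/
theorem step_moved (hK : Pro K) (hn : Nat.card Ω = n) (hB : ∀ m < n, Bd m) (hmv : ∃ x : Ω, x ∉ Fx K Ω)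
    (h2 : n ≤ 2 * (Fx K Ω).ncard) {a x : Ω} (ha : a ∈ Fx K Ω) (hx : x ≠ a) : ∃ g ∈ sg K a, g⁻¹ • x ∉ Fx K Ω := by
  by_contra hcon
  push Not at hcon
  exact hx (block_bd hK hn hB (step_trans hK hn hB hmv h2) hmv (by omega) ha hcon)

theorem one_mem_sg {a : Ω} (ha : a ∈ Fx K Ω) : (1 : G) ∈ sg K a := by simpa [sg] using ha

theorem fix_a {a : Ω} {l : G} (hl : l ∈ Lg K (sg K a)) : l • a = a := Lg_fix (fun _ h => h) l hl

omit [Finite G] [IsPretransitive G Ω] in
theorem ncard_inter_compl {a : Ω} (ha : a ∈ Fx K Ω) :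
    (Fx K Ω ∩ {a}ᶜ).ncard + 1 = (Fx K Ω).ncard := by
  rw [← Set.sdiff_eq, Set.ncard_sdiff_singleton_add_one ha (Set.toFinite _)]

theorem orbit_sub {a x : Ω} (hx : x ≠ a) : orbit (Lg K (sg K a)) x ⊆ {a}ᶜ := by
  rintro y ⟨l, rfl⟩ hcon
  rw [Set.mem_singleton_iff] at hcon
  apply hx
  have h4 : (l : G) • x = a := hcon
  have h5 := fix_a (K := K) (a := a) (inv_mem l.2)
  calc x = (l : G)⁻¹ • ((l : G) • x) := (inv_smul_smul _ _).symm
    _ = (l : G)⁻¹ • a := by rw [h4]
    _ = a := h5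

theorem step_eq (hK : Pro K) (hn : Nat.card Ω = n) (hB : ∀ m < n, Bd m) (hmv : ∃ x : Ω, x ∉ Fx K Ω)
    (h2 : n ≤ 2 * (Fx K Ω).ncard) : n = 2 * (Fx K Ω).ncard ∧ ∀ a ∈ Fx K Ω, ∀ x y : Ω, x ≠ a → y ≠ a →
      ∃ l ∈ Lg K (sg K a), l • x = y := by
  obtain ⟨x0, hx0⟩ := hmv
  have hmv : ∃ x : Ω, x ∉ Fx K Ω := ⟨x0, hx0⟩
  have hpos : 0 < n := by
    rw [← hn]
    exact Nat.card_pos_iff.2 ⟨⟨x0⟩, inferInstance⟩
  have hcc : ∀ a : Ω, ({a}ᶜ : Set Ω).ncard + 1 = n := by
    intro a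
    have := Set.ncard_add_ncard_compl ({a} : Set Ω)
    rw [Set.ncard_singleton, hn] at this
    omega
  have hsm : ∀ a x : Ω, x ≠ a → (orbit (Lg K (sg K a)) x).ncard < n := by
    intro a x hx
    have h1 := Set.ncard_le_ncard (orbit_sub (K := K) hx) (Set.toFinite _)
    have h3 := hcc a
    omega
  constructor
  · obtain ⟨a, ha⟩ : (Fx K Ω).Nonempty := by
      rw [← Set.ncard_pos (Set.toFinite _)]
      omega
    have h3 := set_bd hK (one_mem_sg ha) hB _ ({a}ᶜ : Set Ω) rfl ⟨x0, fun h => hx0 (h ▸ ha)⟩ ?_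
      (fun x hx => step_moved hK hn hB hmv h2 ha hx) (fun x hx => hsm a x hx)
    · have h4 := hcc a
      have h5 := ncard_inter_compl ha
      omega
    · intro l hl x hx
      exact orbit_sub (K := K) hx ⟨⟨l, hl⟩, rfl⟩
  · intro a ha x y hx hy
    by_contra hcon
    push Not at hcon
    have hinv : ∀ l ∈ Lg K (sg K a), ∀ z ∈ orbit (Lg K (sg K a)) x, l • z ∈ orbit (Lg K (sg K a)) x := by
      rintro l hl z ⟨w, rfl⟩
      refine ⟨⟨l, hl⟩ * w, ?_⟩
      show ((⟨l, hl⟩ : Lg K (sg K a)) * w) • x = _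
      rw [mul_smul]
      rfl
    have h3 := set_bd hK (one_mem_sg ha) hB _ (orbit (Lg K (sg K a)) x) rfl ⟨x, mem_orbit_self x⟩ hinv
      (fun z hz => step_moved hK hn hB hmv h2 ha (orbit_sub hx hz)) (fun z hz => hsm a z (orbit_sub hx hz))
    have h4 := set_bd hK (one_mem_sg ha) hB _ ({a}ᶜ \ orbit (Lg K (sg K a)) x) rfl ⟨y, hy, ?_⟩ ?_
      (fun z hz => step_moved hK hn hB hmv h2 ha hz.1) (fun z hz => hsm a z hz.1)
    · have h5 : ({a}ᶜ \ orbit (Lg K (sg K a)) x).ncard + (orbit (Lg K (sg K a)) x).ncard = ({a}ᶜ : Set Ω).ncard :=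
        Set.ncard_sdiff_add_ncard_of_subset (orbit_sub hx)
      have h6 : (Fx K Ω ∩ {a}ᶜ).ncard = (Fx K Ω ∩ ({a}ᶜ \ orbit (Lg K (sg K a)) x)).ncard +
          (Fx K Ω ∩ orbit (Lg K (sg K a)) x).ncard := by
        rw [← Set.ncard_union_eq]
        · congr 1
          rw [← Set.inter_union_distrib_left, Set.sdiff_union_of_subset (orbit_sub hx)]
        · rw [Set.disjoint_left]
          rintro y ⟨-, hy⟩ ⟨-, hy'⟩
          exact hy.2 hy'
      have h7 := hcc a
      have h8 := ncard_inter_compl ha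
      omega
    · rintro ⟨l, hl⟩
      exact hcon l l.2 hl
    · rintro l hl z ⟨hz1, hz2⟩
      refine ⟨orbit_sub (K := K) hz1 ⟨⟨l, hl⟩, rfl⟩, fun h => hz2 ?_⟩
      have := hinv l⁻¹ (inv_mem hl) _ h
      rwa [inv_smul_smul] at this

/-- translates of the fixed point set meet -/
theorem step_meet (hK : Pro K) (hn : Nat.card Ω = n) (hB : ∀ m < n, Bd m)
    (h2 : n = 2 * (Fx K Ω).ncard) (hne : (Fx K Ω).Nonempty) (g : G) : ∃ x ∈ Fx K Ω, g • x ∈ Fx K Ω := by
  by_contra hcon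
  push Not at hcon
  let F := Fx K Ω
  have hF : ∀ x : Ω, x ∈ Fx K Ω ∨ g⁻¹ • x ∈ Fx K Ω := by
    have h3 : Disjoint (Fx K Ω) (g • Fx K Ω) := by
      rw [Set.disjoint_left]
      rintro x hx ⟨y, hy, rfl⟩
      exact hcon y hy hx
    have h4 : (Fx K Ω ∪ g • Fx K Ω) = Set.univ := by
      refine Set.eq_of_subset_of_ncard_le (Set.subset_univ _) ?_ (Set.toFinite _)
      rw [Set.ncard_univ, hn, Set.ncard_union_eq h3, Set.ncard_smul_set]
      omega
    intro x
    have : x ∈ (Fx K Ω ∪ g • Fx K Ω) := by rw [h4]; trivial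
    rcases this with h | h
    · exact Or.inl h
    · rw [Set.mem_smul_set_iff_inv_smul_mem] at h
      exact Or.inr h
  have hnot : ∀ x : Ω, x ∈ Fx K Ω → g⁻¹ • x ∉ Fx K Ω := by
    intro x hx h
    exact hcon _ h (by rwa [smul_inv_smul])
  have hpos : 0 < (Fx K Ω).ncard := (Set.ncard_pos (Set.toFinite _)).2 hne
  have h1S : (1 : G) ∈ ({1, g} : Set G) := Or.inl rfl
  have hS : ∀ l ∈ Lg K ({1, g} : Set G), ∀ x ∈ Fx K Ω, l • x ∈ Fx K Ω := by
    apply Lg_inv
    rintro h hh k hk x hx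
    rcases hh with rfl | rfl
    · have : ((1 : G) * k * 1⁻¹) • x = x := by
        rw [one_mul, inv_one, mul_one]
        exact hx k hk
      rw [this]
      exact hx
    · rcases hF ((h * k * h⁻¹) • x) with h3 | h3
      · exact h3
      · exfalso
        rw [← mul_smul, show h⁻¹ * (h * k * h⁻¹) = k * h⁻¹ by group, mul_smul] at h3
        have h4 : k • h⁻¹ • x = h⁻¹ • x := by
          have := h3 k⁻¹ (inv_mem hk)
          rw [inv_smul_smul] at this
          exact this.symm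
        rw [h4] at h3
        exact hnot x hx h3
  have hS' : ∀ l ∈ Lg K ({1, g} : Set G), ∀ x, x ∉ Fx K Ω → l • x ∉ Fx K Ω := by
    intro l hl x hx h
    apply hx
    have := hS _ (inv_mem hl) _ h
    rwa [inv_smul_smul] at this
  have h3 := set_bd hK h1S hB _ (Set.univ : Set Ω) rfl ⟨hne.some, trivial⟩ (fun _ _ _ _ => trivial) ?_ ?_
  · rw [Set.inter_univ, Set.ncard_univ, hn] at h3
    omega
  · intro x _
    by_cases hx : x ∈ Fx K Ω
    · exact ⟨g, Or.inr rfl, hnot x hx⟩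
    · exact ⟨1, Or.inl rfl, by simpa using hx⟩
  · intro x _
    rw [← hn, ← Set.ncard_univ]
    refine Set.ncard_lt_ncard ?_ (Set.toFinite _)
    rw [Set.ssubset_univ_iff]
    intro hz
    by_cases hx : x ∈ Fx K Ω
    · have h4 : Fx K Ω = Set.univ := by
        apply Set.eq_univ_of_univ_subset
        rw [← hz]
        rintro y ⟨l, rfl⟩
        exact hS l l.2 x hx
      have := hnot x hx
      rw [h4] at this
      exact this trivial
    · obtain ⟨y, hy⟩ := hne
      have : y ∈ orbit (Lg K ({1, g} : Set G)) x := by rw [hz]; trivial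
      obtain ⟨l, rfl⟩ := this
      exact hS' l l.2 x hx hy

end

end Cfsg.Agent.H245.Pron
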