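import Cfsg.Agent.H245.PronMathieu
import Cfsg.Agent.H488.ThreeMain
import Cfsg.Agent.H354.FourTrans
import Cfsg.Agent.H384.AsOut
import Cfsg.Agent.S2060
import Cfsg.Agent.S2061
import Cfsg.Agent.S2062
import Cfsg.Agent.S2064

/-!
# Pronormal subgroups of transitive groups: the end, modulo the list of the 2-transitive groups
-/

set_option autoImplicit false
set_option linter.unusedSectionVars false

namespace Cfsg.Agent.H245.Pron

open MulAction Cfsg.Agent.H488.ThreeHalf Cfsg.Agent.H384.TwoTrans Cfsg.Agent.H392.MultTrans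

variable {G Ω : Type} [Group G] [MulAction G Ω] [Finite G] [Finite Ω] {K : Subgroup G}

/-- no regular abelian normal subgroup -/
theorem affine {N : Subgroup G} (hN : N.Normal) (htr : ∀ x y : Ω, ∃ n ∈ N, n • x = y)
    (hfree : ∀ x : Ω, ∀ n ∈ N, n • x = x → n = 1) (hmv : ∃ x : Ω, x ∉ Fx K Ω) {a : Ω} (ha : a ∈ Fx K Ω)
    (hmeet : ∀ g : G, ∃ x ∈ Fx K Ω, g • x ∈ Fx K Ω) : False := by
  have hmem : ∀ n ∈ N, n • a ∈ Fx K Ω ↔ ∀ k ∈ K, k * n * k⁻¹ = n := by
    intro n hn
    constructor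
    · intro h k hk
      have h1 := h k hk
      have h2 : (n⁻¹ * (k * n * k⁻¹)) • a = a := by
        have h3 : k⁻¹ • a = a := ha _ (inv_mem hk)
        rw [mul_smul, mul_smul, mul_smul, h3, h1, inv_smul_smul]
      have h3 := hfree a _ (N.mul_mem (N.inv_mem hn) (hN.conj_mem n hn k)) h2
      rw [inv_mul_eq_one] at h3
      exact h3.symm
    · intro h k hk
      have h1 : k • n • a = (k * n * k⁻¹) • k • a := by
        rw [← mul_smul, ← mul_smul]
        congr 1
        group
      rw [h1, h k hk, ha k hk]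
  obtain ⟨x, hx⟩ := hmv
  obtain ⟨t, ht, rfl⟩ := htr a x
  obtain ⟨y, hy, hty⟩ := hmeet t
  obtain ⟨n, hn, rfl⟩ := htr a y
  apply hx
  rw [hmem t ht]
  rw [hmem n hn] at hy
  rw [← mul_smul, hmem _ (N.mul_mem ht hn)] at hty
  intro k hk
  have h1 := hy k hk
  have h2 := hty k hk
  have h3 : k * (t * n) * k⁻¹ = (k * t * k⁻¹) * (k * n * k⁻¹) := by group
  rw [h3, h1] at h2
  exact mul_right_cancel h2

/-- the alternating groups -/
theorem alt_end [FaithfulSMul G Ω] {T : Subgroup G} (h5 : 5 ≤ Nat.card Ω) (hT : Nat.card T * 2 = (Nat.card Ω).factorial)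
    (hn : Nat.card Ω = 2 * (Fx K Ω).ncard)
    (hmeet : ∀ g : G, ∃ x ∈ Fx K Ω, g • x ∈ Fx K Ω) : False := by
  classical
  have := Fintype.ofFinite Ω
  have hle : (Fintype.card Ω).factorial ≤ 2 * Nat.card G := by
    rw [← Nat.card_eq_fintype_card, ← hT]
    have := Nat.le_of_dvd Nat.card_pos (Subgroup.card_subgroup_dvd_card T)
    omega
  have hr : alternatingGroup Ω ≤ (toPermHom G Ω).range := by
    rcases H354.Four.range_of_card hle with h | h
    · rw [h]; exact le_top
    · rw [h]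
  have hcard : (Fx K Ω).toFinset.card = (Fx K Ω)ᶜ.toFinset.card := by
    rw [← Set.ncard_eq_toFinset_card', ← Set.ncard_eq_toFinset_card']
    have := Set.ncard_add_ncard_compl (Fx K Ω)
    omega
  have hf : Nonempty (Fin (Fx K Ω).ncard ≃ (Fx K Ω : Set Ω)) := ⟨(Finite.equivFinOfCardEq (Nat.card_coe_set_eq _)).symm⟩
  have hf' : Nonempty (Fin (Fx K Ω).ncard ≃ ((Fx K Ω)ᶜ : Set Ω)) := by
    have h1 : Nat.card ((Fx K Ω)ᶜ : Set Ω) = (Fx K Ω).ncard := by
      rw [Nat.card_coe_set_eq]
      have := Set.ncard_add_ncard_compl (Fx K Ω)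
      omega
    exact ⟨(Finite.equivFinOfCardEq h1).symm⟩
  obtain ⟨e⟩ := hf
  obtain ⟨e'⟩ := hf'
  have hm : IsMultiplyPretransitive (alternatingGroup Ω) Ω (Nat.card Ω - 2) :=
    alternatingGroup.isMultiplyPretransitive Ω
  have hm' : IsMultiplyPretransitive (alternatingGroup Ω) Ω (Fx K Ω).ncard :=
    isMultiplyPretransitive_of_le (n := Nat.card Ω - 2) (by omega) (Nat.sub_le _ _)
  obtain ⟨σ, hσ⟩ := exists_map hm' (e.toEmbedding.trans (Function.Embedding.subtype _))
    (e'.toEmbedding.trans (Function.Embedding.subtype _))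
  obtain ⟨g, hg⟩ := hr σ.2
  obtain ⟨x, hx, hgx⟩ := hmeet g
  have h1 := hσ (e.symm ⟨x, hx⟩)
  simp only [Function.Embedding.trans_apply, Equiv.coe_toEmbedding, Equiv.apply_symm_apply,
    Function.Embedding.subtype_apply] at h1
  have h2 : σ • x = g • x := by
    show (σ : Equiv.Perm Ω) x = g • x
    rw [← hg]
    rfl
  rw [h2] at h1
  have h3 := (e' (e.symm ⟨x, hx⟩)).2
  rw [← h1] at h3
  exact h3 hgx

/-- `PSL₂(q)` -/
theorem psl_two_end {T : Subgroup G} {F : Type} [Field F] [Fintype F] (A : AS G Ω T)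
    (h3 : IsMultiplyPretransitive G Ω 3) (hq : 4 ≤ Fintype.card F)
    (e : Nonempty (T ≃* Matrix.ProjectiveSpecialLinearGroup (Fin 2) F))
    (hn : Nat.card Ω * (Fintype.card F - 1) = Fintype.card F ^ 2 - 1)
    (hn2 : Nat.card Ω = 2 * (Fx K Ω).ncard) : False := by
  classical
  have := A.faithful
  have := A.normal
  obtain ⟨Λ⟩ := exists_line_of A e hn
  have hΩ := card_of_deg (by omega) hn
  obtain ⟨p, hch⟩ := CharP.exists F
  obtain ⟨-, hp, -⟩ := FiniteField.card F p
  have := Fact.mk hp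
  obtain ⟨a, b, c, ha, hb, hc, hab, hac, hbc⟩ := (Set.two_lt_ncard_iff (Set.toFinite _)).1 (by
    omega : 2 < (Fx K Ω).ncard)
  obtain ⟨g, g1, g2, g3⟩ := three_pts h3 hab hac hbc (Λ.pt_ne 0).symm (Λ.pt_ne 1).symm
    (fun h => zero_ne_one (Λ.pt_inj h))
  have hfix : ∀ ω : Ω, (∀ k ∈ K, (g * k * g⁻¹) • ω = ω) ↔ g⁻¹ • ω ∈ Fx K Ω := by
    intro ω
    constructor
    · intro h k hk
      have := h k hk
      rw [mul_smul, mul_smul] at this
      exact (eq_inv_smul_iff.2 this)
    · intro h k hk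
      rw [mul_smul, mul_smul, h k hk, smul_inv_smul]
  have hmapf : ∀ k ∈ K, ∃ f : F → F, (∀ x, (g * k * g⁻¹) • Λ.pt x = Λ.pt (f x)) ∧ (∀ x y, f (x + y) = f x + f y) := by
    intro k hk
    obtain ⟨f, hf1, hf2, -, -⟩ := Λ.exists_map (p := p) (g := g * k * g⁻¹)
      ((hfix _).2 (by rw [← g1, inv_smul_smul]; exact ha) k hk)
      ((hfix _).2 (by rw [← g2, inv_smul_smul]; exact hb) k hk)
      ((hfix _).2 (by rw [← g3, inv_smul_smul]; exact hc) k hk)
    exact ⟨f, hf1, hf2⟩
  let B : AddSubgroup F :=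
    { carrier := {x | ∀ k ∈ K, (g * k * g⁻¹) • Λ.pt x = Λ.pt x}
      zero_mem' := (hfix _).2 (by rw [← g2, inv_smul_smul]; exact hb)
      add_mem' := by
        intro x y hx hy k hk
        obtain ⟨f, hf1, hf2⟩ := hmapf k hk
        have e1 := hx k hk
        have e2 := hy k hk
        rw [hf1] at e1 e2 ⊢
        rw [hf2, Λ.pt_inj e1, Λ.pt_inj e2]
      neg_mem' := by
        intro x hx k hk
        obtain ⟨f, hf1, hf2⟩ := hmapf k hk
        have e1 := hx k hk
        rw [hf1] at e1 ⊢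
        have e0 : f 0 = 0 := by
          have := hf2 0 0
          rw [add_zero] at this
          exact left_eq_add.1 this
        have e3 := hf2 x (-x)
        rw [add_neg_cancel, e0, Λ.pt_inj e1] at e3
        rw [eq_neg_of_add_eq_zero_right e3.symm] }
  have hcard : Nat.card B + 1 = (Fx K Ω).ncard := by
    have h4 : (Fx K Ω).ncard = ((fun x : Ω => g • x) '' (Fx K Ω)).ncard :=
      (Set.ncard_image_of_injective _ (MulAction.injective g)).symm
    have h5 : ((fun x : Ω => g • x) '' (Fx K Ω)) = insert Λ.inf (Λ.pt '' (B : Set F)) := by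
      ext ω
      constructor
      · rintro ⟨x, hx, rfl⟩
        by_cases h : g • x = Λ.inf
        · exact Or.inl h
        · right
          obtain ⟨y, hy⟩ := Λ.pt_surj _ h
          refine ⟨y, ?_, hy⟩
          show ∀ k ∈ K, (g * k * g⁻¹) • Λ.pt y = Λ.pt y
          rw [hfix, hy, inv_smul_smul]
          exact hx
      · rintro (h | ⟨y, hy, rfl⟩)
        · exact ⟨a, ha, by rw [h]; exact g1⟩
        · exact ⟨g⁻¹ • Λ.pt y, (hfix _).1 hy, smul_inv_smul _ _⟩
    have h6 : Λ.inf ∉ (Λ.pt '' (B : Set F)) := by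
      rintro ⟨y, -, h⟩
      exact Λ.pt_ne y h
    rw [h4, h5, Set.ncard_insert_of_notMem h6 (Set.toFinite _), Set.ncard_image_of_injective _ Λ.pt_inj,
      ← Nat.card_coe_set_eq]
    rfl
  have hdvd : Nat.card B ∣ Fintype.card F := by
    rw [← Nat.card_eq_fintype_card]
    exact AddSubgroup.card_addSubgroup_dvd_card B
  have h7 : Fintype.card F = 2 * Nat.card B + 1 := by omega
  have h8 : Nat.card B ∣ 1 := by
    have h9 : Nat.card B ∣ 2 * Nat.card B := Dvd.intro_left 2 rfl
    rw [h7] at hdvd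
    exact (Nat.dvd_add_right h9).1 hdvd
  have := Nat.dvd_one.1 h8
  omega

/-- the order of an element fixing three points -/
theorem not_dvd_three {T : Subgroup G} (h3 : IsMultiplyPretransitive G Ω 3) {r t i n : ℕ}
    (hT : Nat.card T = t) (hi : T.index ∣ i) (hn : Nat.card Ω = n) {s : ℕ} (hs : i * t = n.descFactorial 3 * s)
    (hr : ¬ r ∣ s) (g : G) (hg : orderOf g = r) (a b c : Ω) (hab : a ≠ b) (hac : a ≠ c) (hbc : b ≠ c)
    (ha : g • a = a) (hb : g • b = b) (hc : g • c = c) : False := by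
  apply hr
  have h1 := card_eq_descFactorial h3 (tri a b c hab hac hbc)
  have h2 : g ∈ stabilizer G (tri a b c hab hac hbc) := by
    rw [mem_stab_emb]
    intro j
    fin_cases j
    · exact ha
    · exact hb
    · exact hc
  have h4 : r ∣ Nat.card (stabilizer G (tri a b c hab hac hbc)) := by
    rw [← hg, ← Subgroup.orderOf_mk g h2]
    exact orderOf_dvd_natCard _
  have h5 : Nat.card G ∣ i * t := by
    rw [← T.index_mul_card, hT]
    exact Nat.mul_dvd_mul_right hi t
  rw [h1, hn, hs] at h5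
  have h6 : 0 < n.descFactorial 3 := by
    rw [← hn]
    rcases Nat.eq_zero_or_pos ((Nat.card Ω).descFactorial 3) with h0 | h0
    · rw [h0, zero_mul] at h1
      exact absurd h1 Nat.card_pos.ne'
    · exact h0
  exact h4.trans (Nat.dvd_of_mul_dvd_mul_left h6 h5)

/-- **The end.** -/
theorem endgame [FaithfulSMul G Ω] (hK : Pro K) (h3 : IsMultiplyPretransitive G Ω 3)
    (hn2 : Nat.card Ω = 2 * (Fx K Ω).ncard) (hmv : ∃ x : Ω, x ∉ Fx K Ω)
    (hmeet : ∀ g : G, ∃ x ∈ Fx K Ω, g • x ∈ Fx K Ω) (h4 : 4 ≤ Nat.card Ω)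
    (hAS : ∀ T : Subgroup G, AS G Ω T → Known2 T (Nat.card Ω)) : False := by
  have h2 : IsMultiplyPretransitive G Ω 2 := isMultiplyPretransitive_of_le (n := 3) (by omega) (by omega)
  obtain ⟨a, ha⟩ : (Fx K Ω).Nonempty := by
    rw [← Set.ncard_pos (Set.toFinite _)]
    omega
  rcases reduction (G := G) (Ω := Ω) h2 (by omega) with ⟨N, hN, -, -, -, htr, hfree⟩ | ⟨T, A⟩
  · exact affine hN htr hfree hmv ha hmeet
  have hKn := hAS T A
  have := A.simple
  generalize hn : Nat.card Ω = n at hKn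
  rw [hn] at hn2
  cases hKn with
  | alt n hn5 e =>
    obtain ⟨e⟩ := e
    refine alt_end (T := T) (K := K) (by omega) ?_ (by omega) hmeet
    rw [Nat.card_congr e.toEquiv, card_alt (by omega), hn]
  | psl F d n hd hd2 e hn' =>
    subst hn
    rcases Nat.lt_or_ge 2 d with h | h
    · exact not_psl A h3 h e hn'
    · obtain rfl : d = 2 := by omega
      exact psl_two_end A h3 (hd2 rfl) e hn' hn2
  | sp F m n hF hm e hn' => exact not_sp A h3 hF hm e (by rwa [hn])
  | psu F q n hq hF e hn' => exact not_psu A h3 hq hF e (by rwa [hn])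
  | sz F m n hm hF e hn' => exact not_sz A h3 hm hF e (by rwa [hn])
  | ree K m n hm hK e hn' => exact not_ree A h3 hm hK e (by rwa [hn])
  | psl2_8 F hF e =>
    obtain ⟨e⟩ := e
    refine psl2_8 A h3 hn ?_
    rw [Nat.card_congr e.toEquiv]
    have h := card_psl_two hF
    norm_num at h
    omega
  | psl2_9 F hF e =>
    obtain ⟨e⟩ := e
    refine alt_end (T := T) (K := K) (by omega) ?_ (by omega) hmeet
    rw [Nat.card_congr e.toEquiv, hn]
    have h := card_psl_two hF
    norm_num [Nat.factorial] at h ⊢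
    omega
  | psl2_11 F hF e => omega
  | psl4_2 F hF e =>
    obtain ⟨e⟩ := e
    refine alt_end (T := T) (K := K) (by omega) ?_ (by omega) hmeet
    rw [Nat.card_congr e.toEquiv, hn, card_psl_four hF]
    norm_num [Nat.factorial]
  | a7 e => omega
  | m11 h => omega
  | m11' h =>
    refine mathieu hK h2 (by omega) (r := 5) (by norm_num) (by norm_num) (Or.inr ⟨by omega, by omega⟩) ?_
    obtain ⟨e⟩ := id h
    refine not_dvd_three h3 (Cfsg.Agent.NotCT.Orders.m11 h) (A.index_dvd_out e) hn (s := 6) ?_ (by norm_num)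
    rw [S2060.result]
    simp [Nat.descFactorial]
  | m12 h =>
    refine mathieu hK h2 (by omega) (r := 5) (by norm_num) (by norm_num) (Or.inr ⟨by omega, by omega⟩) ?_
    obtain ⟨e⟩ := id h
    refine not_dvd_three h3 (Cfsg.Agent.NotCT.Orders.m12 h) (A.index_dvd_out e) hn (s := 144) ?_ (by norm_num)
    rw [S2061.result]
    simp [Nat.descFactorial]
  | m22 h =>
    refine mathieu hK h2 (by omega) (r := 11) (by norm_num) (by norm_num) (Or.inl (by omega)) ?_
    obtain ⟨e⟩ := id h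
    refine not_dvd_three h3 (Cfsg.Agent.NotCT.Orders.m22 h) (A.index_dvd_out e) hn (s := 96) ?_ (by norm_num)
    rw [S2062.result]
    simp [Nat.descFactorial]
  | m23 h => omega
  | m24 h =>
    refine mathieu hK h2 (by omega) (r := 11) (by norm_num) (by norm_num) (Or.inr ⟨by omega, by omega⟩) ?_
    obtain ⟨e⟩ := id h
    refine not_dvd_three h3 (Cfsg.Agent.NotCT.Orders.m24 h) (A.index_dvd_out e) hn (s := 20160) ?_ (by norm_num)
    rw [S2064.result]
    simp [Nat.descFactorial]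
  | hs h => exact hs A h3 hn (Cfsg.Agent.NotCT.Orders.hs h)
  | co3 h => exact co3 A h3 hn (Cfsg.Agent.NotCT.Orders.co3 h)

/-- passage to the faithful action -/
theorem Fx_map (K : Subgroup G) : Fx (K.map (toPermHom G Ω).rangeRestrict) Ω = Fx K Ω := by
  ext x
  constructor
  · intro h k hk
    exact h _ (Subgroup.mem_map_of_mem _ hk)
  · rintro h _ ⟨k, hk, rfl⟩
    exact h k hk

/-- **Main theorem**, modulo the list of the 2-transitive groups. -/
theorem main (hAS : ∀ (G Ω : Type) [Group G] [MulAction G Ω] (T : Subgroup G), AS G Ω T → Known2 T (Nat.card Ω)) (n : ℕ) :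
    Bd n := by
  induction n using Nat.strong_induction_on with
  | _ n ih =>
    intro G Ω _ _ _ _ _ K hK hn hmv
    by_contra hcon
    have h2 : n ≤ 2 * (Fx K Ω).ncard := by omega
    obtain ⟨hn2, htr⟩ := step_eq hK hn ih hmv h2
    obtain ⟨x, hx⟩ := hmv
    have hmv : ∃ x : Ω, x ∉ Fx K Ω := ⟨x, hx⟩
    -- at least four points
    have hx' := hx
    simp only [mem_Fx, not_forall] at hx'
    obtain ⟨k, hk, hkx⟩ := hx'
    have h1 : 2 ≤ ((Fx K Ω)ᶜ : Set Ω).ncard := by
      rw [← Set.ncard_pair (Ne.symm hkx)]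
      refine Set.ncard_le_ncard ?_ (Set.toFinite _)
      rintro y (rfl | rfl)
      · exact hx
      · intro h
        apply hx
        have h3 := h k⁻¹ (inv_mem hk)
        rw [inv_smul_smul] at h3
        rw [h3]
        exact h
    have h1' := Set.ncard_add_ncard_compl (Fx K Ω)
    have hf2 : 2 ≤ (Fx K Ω).ncard := by omega
    obtain ⟨a, b, ha, hb, hab⟩ := (Set.one_lt_ncard_iff (Set.toFinite _)).1 hf2
    have hmeet := step_meet hK hn ih hn2 ⟨a, ha⟩
    have hab' : b ≠ a := Ne.symm hab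
    have hGa : ∀ u : Ω, u ≠ a → ∃ g : G, g • a = a ∧ g • u = b := by
      intro u hu
      obtain ⟨l, hl, hl2⟩ := htr a ha u b hu hab'
      exact ⟨l, fix_a hl, hl2⟩
    have h3 : IsMultiplyPretransitive G Ω 3 := by
      refine (SubMulAction.ofStabilizer.isMultiplyPretransitive (a := a)).2 ?_
      rw [is_two_pretransitive_iff]
      intro u v u' v' huv huv'
      obtain ⟨g, g1, g2⟩ := hGa u u.2
      obtain ⟨g', g1', g2'⟩ := hGa u' u'.2
      have hv1 : g • (v : Ω) ≠ a ∧ g • (v : Ω) ≠ b := by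
        constructor
        · intro h
          exact v.2 (smul_left_cancel g (h.trans g1.symm))
        · intro h
          exact huv (Subtype.ext (smul_left_cancel g (h.trans g2.symm)).symm)
      have hv2 : g' • (v' : Ω) ≠ a ∧ g' • (v' : Ω) ≠ b := by
        constructor
        · intro h
          exact v'.2 (smul_left_cancel g' (h.trans g1'.symm))
        · intro h
          exact huv' (Subtype.ext (smul_left_cancel g' (h.trans g2'.symm)).symm)
      obtain ⟨t, t1, t2, t3⟩ := three_core hK hn ih hmv h2 ha hb hab' hv1 hv2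
      refine ⟨⟨g'⁻¹ * t * g, ?_⟩, ?_, ?_⟩
      · rw [mem_stabilizer_iff, mul_smul, mul_smul, g1, t1, inv_smul_eq_iff, g1']
      · apply Subtype.ext
        show (g'⁻¹ * t * g) • (u : Ω) = u'
        rw [mul_smul, mul_smul, g2, t2, inv_smul_eq_iff, g2']
      · apply Subtype.ext
        show (g'⁻¹ * t * g) • (v : Ω) = v'
        rw [mul_smul, mul_smul, t3, inv_smul_smul]
    -- the faithful action
    have hsurj : Function.Surjective (toPermHom G Ω).rangeRestrict := MonoidHom.rangeRestrict_surjective _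
    have h3' : IsMultiplyPretransitive (toPermHom G Ω).range Ω 3 := by
      refine ⟨fun s t => ?_⟩
      have : IsPretransitive G (Fin 3 ↪ Ω) := h3
      obtain ⟨g, hg⟩ := exists_smul_eq G s t
      refine ⟨(toPermHom G Ω).rangeRestrict g, ?_⟩
      rw [← hg]
      rfl
    refine endgame (G := (toPermHom G Ω).range) (Ω := Ω) (K := K.map (toPermHom G Ω).rangeRestrict) (hK.map _ hsurj)
      h3' (by rw [Fx_map, hn]; exact hn2) (by rw [Fx_map]; exact hmv) ?_ (by omega) (fun T A => hAS _ _ T A)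
    intro g
    obtain ⟨g, rfl⟩ := hsurj g
    rw [Fx_map]
    obtain ⟨y, hy1, hy2⟩ := hmeet g
    exact ⟨y, hy1, hy2⟩

/-- S3399, modulo the list of the 2-transitive groups -/
theorem final (hAS : ∀ (G Ω : Type) [Group G] [MulAction G Ω] (T : Subgroup G), AS G Ω T → Known2 T (Nat.card Ω))
    (n : ℕ) (G : Subgroup (Equiv.Perm (Fin n)))
    (htrans : ∀ a b : Fin n, ∃ g ∈ G, g a = b)
    (K : Subgroup (Equiv.Perm (Fin n))) (hKG : K ≤ G) (hK : K ≠ ⊥)
    (hpro : ∀ g ∈ G, ∃ w ∈ K ⊔ K.map (MulAut.conj g).toMonoidHom,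
      K.map (MulAut.conj w).toMonoidHom = K.map (MulAut.conj g).toMonoidHom) :
    2 * Nat.card {a : Fin n // ∀ k ∈ K, k a = a} + 1 ≤ n := by
  have htr : IsPretransitive G (Fin n) := ⟨fun a b => by
    obtain ⟨g, hg, h⟩ := htrans a b
    exact ⟨⟨g, hg⟩, h⟩⟩
  have hpro' : ∀ g ∈ G, ∃ w ∈ K ⊔ K.map (MulAut.conj g).toMonoidHom, w⁻¹ * g ∈ Subgroup.normalizer (K : Set (Equiv.Perm (Fin n))) := by
    intro g hg
    obtain ⟨w, hw, he⟩ := hpro g hg
    refine ⟨w, hw, Subgroup.mem_normalizer_iff.2 fun k => ?_⟩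
    have h1 : g * k * g⁻¹ ∈ K.map (MulAut.conj w).toMonoidHom ↔ g * k * g⁻¹ ∈ K.map (MulAut.conj g).toMonoidHom := by
      rw [he]
    rw [mem_cj, mem_cj] at h1
    have h2 : g⁻¹ * (g * k * g⁻¹) * g = k := by group
    rw [h2] at h1
    rw [← h1]
    have h3 : w⁻¹ * (g * k * g⁻¹) * w = w⁻¹ * g * k * (w⁻¹ * g)⁻¹ := by group
    rw [h3]
  have hP : Pro (K.subgroupOf G) := by
    intro l
    obtain ⟨w, hw, hn⟩ := hpro' l l.2
    have h1 : (K.subgroupOf G ⊔ (K.subgroupOf G).map (MulAut.conj l).toMonoidHom).map G.subtype =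
        K ⊔ K.map (MulAut.conj (l : Equiv.Perm (Fin n))).toMonoidHom := by
      rw [Subgroup.map_sup]
      congr 1
      · rw [Subgroup.subgroupOf_map_subtype, inf_eq_left.2 hKG]
      · ext x
        rw [Subgroup.mem_map]
        constructor
        · rintro ⟨y, hy, rfl⟩
          rw [mem_cj, Subgroup.mem_subgroupOf] at hy
          rw [mem_cj]
          exact hy
        · intro hx
          rw [mem_cj] at hx
          have hxL : x ∈ G := by
            have := G.mul_mem (G.mul_mem l.2 (hKG hx)) (G.inv_mem l.2)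
            simpa [mul_assoc] using this
          refine ⟨⟨x, hxL⟩, ?_, rfl⟩
          rw [mem_cj, Subgroup.mem_subgroupOf]
          exact hx
    rw [← h1, Subgroup.mem_map] at hw
    obtain ⟨w', hw', rfl⟩ := hw
    refine ⟨w', hw', ?_⟩
    rw [Subgroup.mem_normalizer_iff] at hn ⊢
    intro x
    rw [Subgroup.mem_subgroupOf, Subgroup.mem_subgroupOf]
    exact hn x
  have hF : Fx (K.subgroupOf G) (Fin n) = {a | ∀ k ∈ K, k a = a} := by
    ext a
    constructor
    · intro h k hk
      exact h ⟨k, hKG hk⟩ hk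
    · intro h k hk
      exact h k hk
  have hmv : ∃ x : Fin n, x ∉ Fx (K.subgroupOf G) (Fin n) := by
    by_contra hcon
    push Not at hcon
    apply hK
    rw [eq_bot_iff]
    intro k hk
    rw [Subgroup.mem_bot]
    ext a
    have := hcon a ⟨k, hKG hk⟩ hk
    exact congrArg Fin.val this
  have h1 := main hAS n G (Fin n) (K.subgroupOf G) hP (Nat.card_fin n) hmv
  rw [hF] at h1
  rw [← Nat.card_coe_set_eq] at h1
  exact h1

end Cfsg.Agent.H245.Pron
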