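import Cfsg.Agent.H245.PronTour
import Cfsg.Agent.H488.ThreeHalf

/-!
# Pronormal subgroups of transitive groups: degrees `2r` and `2(r+1)`
-/

set_option autoImplicit false
set_option linter.unusedSectionVars false

namespace Cfsg.Agent.H245.Pron

open MulAction Cfsg.Agent.H488.ThreeHalf

/-- orbits of an element of prime order -/
theorem orb {G Ω : Type} [Group G] [MulAction G Ω] {y : G} {r : ℕ} (hr : r.Prime) (hy : orderOf y = r) {x : Ω}
    (hx : y • x ≠ x) : (orbit (Subgroup.zpowers y) x).ncard = r := by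
  have hf : Finite (Subgroup.zpowers y) := by
    apply Nat.finite_of_card_ne_zero
    rw [Nat.card_zpowers, hy]
    exact hr.ne_zero
  have h1 : Nat.card (orbit (Subgroup.zpowers y) x) ∣ r := by
    rw [← hy, ← Nat.card_zpowers]
    exact card_orbit_dvd_card _ _
  rw [← Nat.card_coe_set_eq]
  rcases (Nat.dvd_prime hr).1 h1 with h2 | h2
  · exfalso
    rw [Nat.card_eq_one_iff_unique] at h2
    apply hx
    have h3 : (⟨y • x, ⟨⟨y, Subgroup.mem_zpowers y⟩, rfl⟩⟩ : orbit (Subgroup.zpowers y) x) = ⟨x, mem_orbit_self x⟩ :=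
      h2.1.elim _ _
    exact congrArg Subtype.val h3
  · exact h2

theorem zpow_inv {G Ω : Type} [Group G] [MulAction G Ω] {y : G} {S : Set Ω} (h : ∀ x ∈ S, y • x ∈ S)
    (h' : ∀ x ∈ S, y⁻¹ • x ∈ S) {x : Ω} (hx : x ∈ S) : orbit (Subgroup.zpowers y) x ⊆ S := by
  have key : ∀ g ∈ Subgroup.zpowers y, ∀ x ∈ S, g • x ∈ S := by
    intro g hg
    rw [Subgroup.zpowers_eq_closure] at hg
    induction hg using Subgroup.closure_induction_left with
    | one => intro x hx; rwa [one_smul]
    | mul_left z hz w hw ih =>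
      rw [Set.mem_singleton_iff] at hz
      intro x hx
      rw [hz, mul_smul]
      exact h _ (ih x hx)
    | inv_mul_cancel z hz w hw ih =>
      rw [Set.mem_singleton_iff] at hz
      intro x hx
      rw [hz, mul_smul]
      exact h' _ (ih x hx)
  rintro z ⟨g, rfl⟩
  exact key g g.2 x hx

variable {G Ω : Type} [Group G] [MulAction G Ω] [Finite G] [Finite Ω] {K : Subgroup G}

theorem norm_two (hK : Pro K) (h2 : IsMultiplyPretransitive G Ω 2) {a b a' b' : Ω} (ha : a ∈ Fx K Ω) (hb : b ∈ Fx K Ω)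
    (ha' : a' ∈ Fx K Ω) (hb' : b' ∈ Fx K Ω) (hab : a ≠ b) (hab' : a' ≠ b') :
    ∃ m ∈ Subgroup.normalizer (K : Set G), m • a = a' ∧ m • b = b' := by
  obtain ⟨g, g1, g2⟩ := MulAction.is_two_pretransitive_iff.mp h2 hab hab'
  obtain ⟨w, hw, hn⟩ := hK.use (L := stabilizer G a' ⊓ stabilizer G b') (g := g)
    (fun k hk => ⟨ha' k hk, hb' k hk⟩) (fun k hk => ⟨by
      show (g * k * g⁻¹) • a' = a'
      rw [mul_smul, mul_smul, ← g1, inv_smul_smul, ha k hk], by
      show (g * k * g⁻¹) • b' = b'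
      rw [mul_smul, mul_smul, ← g2, inv_smul_smul, hb k hk]⟩)
  refine ⟨w⁻¹ * g, hn, ?_, ?_⟩
  · rw [mul_smul, g1, inv_smul_eq_iff]
    exact hw.1.symm
  · rw [mul_smul, g2, inv_smul_eq_iff]
    exact hw.2.symm

theorem norm_orbit (hK : Pro K) (h2 : IsMultiplyPretransitive G Ω 2) {a b : Ω} (ha : a ∈ Fx K Ω) (hb : b ∈ Fx K Ω)
    (hab : a ≠ b) : orbit (Subgroup.normalizer (K : Set G)) a = Fx K Ω ∧
      orbit ↥(Subgroup.normalizer (K : Set G) ⊓ stabilizer G a) b = Fx K Ω ∩ {a}ᶜ := by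
  constructor
  · ext x
    constructor
    · rintro ⟨m, rfl⟩
      exact smul_mem m.2 ha
    · intro hx
      by_cases hxa : x = a
      · rw [hxa]; exact mem_orbit_self a
      · obtain ⟨m, hm, h, -⟩ := norm_two hK h2 ha hb hx ha hab hxa
        exact ⟨⟨m, hm⟩, h⟩
  · ext x
    constructor
    · rintro ⟨⟨m, hm⟩, rfl⟩
      refine ⟨smul_mem hm.1 hb, ?_⟩
      intro h
      have h3 : m • b = a := h
      have h4 : m • a = a := hm.2
      rw [← h4] at h3
      exact hab (smul_left_cancel m h3).symm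
    · rintro ⟨hx, hxa⟩
      obtain ⟨m, hm, h3, h4⟩ := norm_two hK h2 ha hb ha hx hab (Ne.symm hxa)
      exact ⟨⟨m, hm, h3⟩, h4⟩

theorem mathieu [FaithfulSMul G Ω] (hK : Pro K) (h2 : IsMultiplyPretransitive G Ω 2)
    (hn : Nat.card Ω = 2 * (Fx K Ω).ncard) {r : ℕ} (hr : r.Prime) (hr3 : 3 ≤ r)
    (hf : (Fx K Ω).ncard = r ∨ ((Fx K Ω).ncard = r + 1 ∧ 6 ∣ (Fx K Ω).ncard))
    (h3 : ∀ g : G, orderOf g = r → ∀ a b c : Ω, a ≠ b → a ≠ c → b ≠ c → g • a = a → g • b = b → g • c = c → False) :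
    False := by
  classical
  have hr' := Fact.mk hr
  obtain ⟨a, b, c, ha, hb, hc, hab, hac, hbc⟩ := (Set.two_lt_ncard_iff (Set.toFinite _)).1 (by
    rcases hf with h | h <;> omega : 2 < (Fx K Ω).ncard)
  obtain ⟨o1, o2⟩ := norm_orbit hK h2 ha hb hab
  -- no element of order `r` in `K`
  have hrK : ¬ r ∣ Nat.card K := by
    intro h
    obtain ⟨k, hk⟩ := exists_prime_orderOf_dvd_card' r h
    refine h3 (k : G) (by rw [Subgroup.orderOf_coe, hk]) a b c hab hac hbc (ha k k.2) (hb k k.2) (hc k k.2)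
  -- an element of order `r` in the normalizer
  have hrN : r ∣ Nat.card (Subgroup.normalizer (K : Set G)) := by
    rcases hf with h | h
    · have h4 := card_orbit_dvd_card (Subgroup.normalizer (K : Set G)) a
      rw [o1, Nat.card_coe_set_eq, h] at h4
      exact h4
    · have h4 := card_orbit_dvd_card (Subgroup.normalizer (K : Set G) ⊓ stabilizer G a) b
      have h5 := ncard_inter_compl (K := K) ha
      rw [o2, Nat.card_coe_set_eq] at h4
      have h6 : (Fx K Ω ∩ {a}ᶜ).ncard = r := by omega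
      rw [h6] at h4
      exact h4.trans (Subgroup.card_dvd_of_le inf_le_left)
  obtain ⟨⟨y, hyN⟩, hy⟩ := exists_prime_orderOf_dvd_card' r hrN
  have hyo : orderOf y = r := by rw [← hy, Subgroup.orderOf_mk]
  have hpow : ∀ g ∈ Subgroup.zpowers y, g ∈ Subgroup.normalizer (K : Set G) := fun g hg =>
    (Subgroup.zpowers_le.2 hyN) hg
  -- the complement
  have hBinv : ∀ m ∈ Subgroup.normalizer (K : Set G), ∀ x ∈ (Fx K Ω)ᶜ, m • x ∈ (Fx K Ω)ᶜ := by
    intro m hm x hx h
    exact hx ((smul_mem_iff hm).1 h)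
  have hKN : K ≤ Subgroup.normalizer (K : Set G) := Subgroup.le_normalizer
  have hBc : (Fx K Ω)ᶜ.ncard = (Fx K Ω).ncard := by
    have := Set.ncard_add_ncard_compl (Fx K Ω)
    omega
  set B := (Fx K Ω)ᶜ with hB
  -- moved and fixed points of `y` in `B`
  have hDinv : ∀ g ∈ Subgroup.zpowers y, ∀ x ∈ {x ∈ B | y • x ≠ x}, g • x ∈ {x ∈ B | y • x ≠ x} := by
    rintro g hg x ⟨hx1, hx2⟩
    refine ⟨hBinv g (hpow g hg) x hx1, fun h => hx2 ?_⟩
    obtain ⟨i, rfl⟩ := hg
    have h4 : y • y ^ i • x = y ^ i • y • x := by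
      rw [← mul_smul, ← mul_smul]
      congr 1
      exact (Commute.self_zpow y i).eq
    rw [h4] at h
    exact smul_left_cancel _ h
  have hDr : r ∣ ({x ∈ B | y • x ≠ x} : Set Ω).ncard := by
    refine dvd_ncard_of_orbits (Subgroup.zpowers y) _ hDinv fun x hx => ?_
    rw [Nat.card_coe_set_eq]
    exact orb hr hyo hx.2
  have hsum : ({x ∈ B | y • x ≠ x} : Set Ω).ncard + ({x ∈ B | y • x = x} : Set Ω).ncard = (Fx K Ω).ncard := by
    rw [← hBc, ← Set.ncard_union_eq]
    · congr 1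
      ext x
      constructor
      · rintro (h | h)
        · exact h.1
        · exact h.1
      · intro h
        by_cases h4 : y • x = x
        · exact Or.inr ⟨h, h4⟩
        · exact Or.inl ⟨h, h4⟩
    · rw [Set.disjoint_left]
      rintro x ⟨-, h4⟩ ⟨-, h5⟩
      exact h4 h5
  have hφ : ({x ∈ B | y • x = x} : Set Ω).ncard ≤ 2 := by
    by_contra hcon
    obtain ⟨p, q, s, hp, hq, hs, hpq, hps, hqs⟩ := (Set.two_lt_ncard_iff (Set.toFinite _)).1 (not_le.1 hcon)
    exact h3 y hyo p q s hpq hps hqs hp.2 hq.2 hs.2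
  have hmoved : ∀ x ∈ {x ∈ B | y • x ≠ x}, orbit (Subgroup.zpowers y) x ⊆ {x ∈ B | y • x ≠ x} := by
    rintro x hx z ⟨g, rfl⟩
    exact hDinv g g.2 x hx
  have hNiff : ∀ g ∈ Subgroup.zpowers y, ∀ n, n ∈ K ↔ g * n * g⁻¹ ∈ K := fun g hg n =>
    Subgroup.mem_normalizer_iff.1 (hpow g hg) n
  rcases hf with hf | ⟨hf, h6⟩
  · -- `f = r`
    have hφ0 : ({x ∈ B | y • x = x} : Set Ω).ncard = 0 := by
      obtain ⟨t, ht⟩ := hDr
      rw [ht, hf] at hsum
      have ht1 : t ≤ 1 := by
        by_contra hcon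
        have : r * 2 ≤ r * t := Nat.mul_le_mul_left _ (by omega)
        omega
      interval_cases t
      · omega
      · omega
    have hDB : ({x ∈ B | y • x ≠ x} : Set Ω) = B := by
      refine Set.eq_of_subset_of_ncard_le (fun x hx => hx.1) ?_ (Set.toFinite _)
      omega
    obtain ⟨x0, hx0⟩ : B.Nonempty := by
      rw [← Set.ncard_pos (Set.toFinite _)]
      omega
    have hx0D : x0 ∈ ({x ∈ B | y • x ≠ x} : Set Ω) := by rw [hDB]; exact hx0
    have horb : orbit (Subgroup.zpowers y) x0 = B := by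
      refine Set.eq_of_subset_of_ncard_le (fun x hx => (hmoved x0 hx0D hx).1) ?_ (Set.toFinite _)
      rw [orb hr hyo hx0D.2]
      omega
    have hl : Nat.card (orbit K x0) ∣ B.ncard := by
      refine dvd_ncard_of_orbits K B (fun k hk => hBinv k (hKN hk)) fun x hx => ?_
      rw [← horb] at hx
      obtain ⟨⟨g, hg⟩, rfl⟩ := hx
      exact card_orbit_smul (hNiff g hg) x0
    rw [hBc, hf] at hl
    rcases (Nat.dvd_prime hr).1 hl with h4 | h4
    · apply hx0
      intro k hk
      rw [Nat.card_eq_one_iff_unique] at h4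
      have h5 : (⟨k • x0, ⟨⟨k, hk⟩, rfl⟩⟩ : orbit K x0) = ⟨x0, mem_orbit_self x0⟩ := h4.1.elim _ _
      exact congrArg Subtype.val h5
    · apply hrK
      rw [← h4]
      exact card_orbit_dvd_card _ _
  · -- `f = r + 1`
    have hφ1 : ({x ∈ B | y • x = x} : Set Ω).ncard = 1 := by
      obtain ⟨t, ht⟩ := hDr
      rw [ht, hf] at hsum
      have ht1 : t ≤ 1 := by
        by_contra hcon
        have : r * 2 ≤ r * t := Nat.mul_le_mul_left _ (by omega)
        omega
      interval_cases t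
      · omega
      · omega
    have hDc : ({x ∈ B | y • x ≠ x} : Set Ω).ncard = r := by omega
    obtain ⟨β, hβ⟩ := Set.ncard_eq_one.1 hφ1
    have hβ1 : β ∈ ({x ∈ B | y • x = x} : Set Ω) := by rw [hβ]; rfl
    have hβ2 : ∀ x ∈ B, y • x = x → x = β := by
      intro x hx hx'
      have : x ∈ ({x ∈ B | y • x = x} : Set Ω) := ⟨hx, hx'⟩
      rw [hβ] at this
      exact this
    have hβD : ∀ x, x ∈ ({x ∈ B | y • x ≠ x} : Set Ω) ↔ x ∈ B ∧ x ≠ β := by
      intro x
      constructor
      · rintro ⟨h4, h5⟩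
        refine ⟨h4, ?_⟩
        rintro rfl
        exact h5 hβ1.2
      · rintro ⟨h4, h5⟩
        exact ⟨h4, fun h => h5 (hβ2 x h4 h)⟩
    have horb : ∀ x ∈ ({x ∈ B | y • x ≠ x} : Set Ω), orbit (Subgroup.zpowers y) x = ({x ∈ B | y • x ≠ x} : Set Ω) := by
      intro x hx
      refine Set.eq_of_subset_of_ncard_le (hmoved x hx) ?_ (Set.toFinite _)
      rw [orb hr hyo hx.2]
      omega
    -- the stabilizer of `β` in `K` is trivial
    have hyβ : ∀ g ∈ Subgroup.zpowers y, g • β = β := by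
      intro g hg
      have h4 : y ∈ stabilizer G β := hβ1.2
      exact (Subgroup.zpowers_le.2 h4) hg
    have hHiff : ∀ g ∈ Subgroup.zpowers y, ∀ n, n ∈ K ⊓ stabilizer G β ↔ g * n * g⁻¹ ∈ K ⊓ stabilizer G β := by
      intro g hg n
      rw [Subgroup.mem_inf, Subgroup.mem_inf, ← hNiff g hg n, mem_stabilizer_iff, mem_stabilizer_iff, mul_smul,
        mul_smul, inv_smul_eq_iff.2 (hyβ g hg).symm]
      constructor
      · rintro ⟨h4, h5⟩
        exact ⟨h4, by rw [h5, hyβ g hg]⟩
      · rintro ⟨h4, h5⟩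
        refine ⟨h4, ?_⟩
        rw [smul_eq_iff_eq_inv_smul, inv_smul_eq_iff.2 (hyβ g hg).symm] at h5
        exact h5
    obtain ⟨x0, hx0⟩ : ({x ∈ B | y • x ≠ x} : Set Ω).Nonempty := by
      rw [← Set.ncard_pos (Set.toFinite _), hDc]
      omega
    have hl : Nat.card (orbit ↥(K ⊓ stabilizer G β) x0) ∣ r := by
      rw [← hDc]
      refine dvd_ncard_of_orbits (K ⊓ stabilizer G β) _ ?_ fun x hx => ?_
      · rintro h hh x hx
        rw [hβD] at hx ⊢
        refine ⟨hBinv h (hKN hh.1) x hx.1, fun h4 => hx.2 ?_⟩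
        have h5 : h • β = β := hh.2
        rw [← h5] at h4
        exact smul_left_cancel h h4
      · rw [← horb x0 hx0] at hx
        obtain ⟨⟨g, hg⟩, rfl⟩ := hx
        exact card_orbit_smul (hHiff g hg) x0
    have hH : K ⊓ stabilizer G β = ⊥ := by
      rcases (Nat.dvd_prime hr).1 hl with h4 | h4
      · rw [eq_bot_iff]
        intro k hk
        rw [Subgroup.mem_bot]
        apply FaithfulSMul.eq_of_smul_eq_smul (α := Ω)
        intro ω
        rw [one_smul]
        by_cases hω : ω ∈ Fx K Ω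
        · exact hω k hk.1
        by_cases hωβ : ω = β
        · rw [hωβ]; exact hk.2
        have hωD := (hβD ω).2 ⟨hω, hωβ⟩
        rw [← horb x0 hx0] at hωD
        obtain ⟨⟨g, hg⟩, hgx⟩ := hωD
        have hgx' : g • x0 = ω := hgx
        have h5 := card_orbit_smul (hHiff g hg) x0
        rw [h4, hgx', Nat.card_eq_one_iff_unique] at h5
        have h6 : (⟨k • ω, ⟨⟨k, hk⟩, rfl⟩⟩ : orbit ↥(K ⊓ stabilizer G β) ω) = ⟨ω, mem_orbit_self ω⟩ := h5.1.elim _ _
        exact congrArg Subtype.val h6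
      · exfalso
        apply hrK
        rw [← h4]
        exact (card_orbit_dvd_card _ _).trans (Subgroup.card_dvd_of_le inf_le_left)
    -- `K` is regular on `B`
    have hOB : orbit K β = B := by
      refine Set.Subset.antisymm ?_ ?_
      · rintro z ⟨k, rfl⟩
        exact hBinv k (hKN k.2) β hβ1.1
      · obtain ⟨k, hk, hkβ⟩ : ∃ k ∈ K, k • β ≠ β := by
          by_contra hcon
          push Not at hcon
          exact hβ1.1 hcon
        have hD : k • β ∈ ({x ∈ B | y • x ≠ x} : Set Ω) := (hβD _).2 ⟨hBinv k (hKN hk) β hβ1.1, hkβ⟩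
        intro x hx
        by_cases hxβ : x = β
        · rw [hxβ]; exact mem_orbit_self β
        · have hx2 := (hβD x).2 ⟨hx, hxβ⟩
          rw [← horb _ hD] at hx2
          obtain ⟨⟨g, hg⟩, rfl⟩ := hx2
          refine ⟨⟨g * k * g⁻¹, (hNiff g hg k).1 hk⟩, ?_⟩
          show (g * k * g⁻¹) • β = g • k • β
          rw [mul_smul, mul_smul, inv_smul_eq_iff.2 (hyβ g hg).symm]
    have hKc : Nat.card K = r + 1 := by
      have h4 := (stabilizer K β).index_mul_card
      rw [MulAction.index_stabilizer] at h4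
      have h5 : stabilizer K β = ⊥ := by
        rw [eq_bot_iff]
        intro k hk
        rw [Subgroup.mem_bot]
        apply Subtype.ext
        have h6 : (k : G) ∈ K ⊓ stabilizer G β := ⟨k.2, hk⟩
        rw [hH, Subgroup.mem_bot] at h6
        exact h6
      rw [h5, Subgroup.card_bot, mul_one, hOB, hBc, hf] at h4
      exact h4.symm
    -- an element of `K` not centralised by `y`
    obtain ⟨k0, hk0, hk0y⟩ : ∃ k ∈ K, y * k * y⁻¹ ≠ k := by
      by_contra hcon
      push Not at hcon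
      apply hβ1.1
      intro k hk
      refine hβ2 _ (hBinv k (hKN hk) β hβ1.1) ?_
      have h4 := hcon k hk
      rw [mul_inv_eq_iff_eq_mul] at h4
      rw [← mul_smul, h4, mul_smul, hβ1.2]
    have hyo' : orderOf (ConjAct.toConjAct y) = r := by
      rw [← hyo]
      exact MulEquiv.orderOf_eq (ConjAct.toConjAct : G ≃* ConjAct G) y
    have h4 : (orbit (Subgroup.zpowers (ConjAct.toConjAct y)) k0).ncard = r := by
      apply orb hr hyo'
      rw [ConjAct.toConjAct_smul]
      exact hk0y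
    have h5 : orbit (Subgroup.zpowers (ConjAct.toConjAct y)) k0 ⊆ (K : Set G) \ {1} := by
      apply zpow_inv
      · rintro x ⟨hx1, hx2⟩
        rw [ConjAct.toConjAct_smul]
        refine ⟨(Subgroup.mem_normalizer_iff.1 hyN x).1 hx1, fun h => hx2 ?_⟩
        rw [Set.mem_singleton_iff] at h ⊢
        rwa [conj_eq_one_iff] at h
      · rintro x ⟨hx1, hx2⟩
        rw [← map_inv, ConjAct.toConjAct_smul]
        refine ⟨(Subgroup.mem_normalizer_iff.1 (inv_mem hyN) x).1 hx1, fun h => hx2 ?_⟩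
        rw [Set.mem_singleton_iff] at h ⊢
        rwa [conj_eq_one_iff] at h
      · refine ⟨hk0, ?_⟩
        rintro h
        rw [Set.mem_singleton_iff] at h
        apply hk0y
        rw [h]
        group
    have h7 : orbit (Subgroup.zpowers (ConjAct.toConjAct y)) k0 = (K : Set G) \ {1} := by
      refine Set.eq_of_subset_of_ncard_le h5 ?_ (Set.toFinite _)
      have h8 := Set.ncard_sdiff_singleton_add_one (s := (K : Set G)) (a := 1) K.one_mem (Set.toFinite _)
      have h9 : (K : Set G).ncard = r + 1 := by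
        rw [← hKc, ← Nat.card_coe_set_eq]
        rfl
      omega
    have hord : ∀ k ∈ K, k ≠ 1 → orderOf k = orderOf k0 := by
      intro k hk hk1
      have h8 : k ∈ (K : Set G) \ {1} := ⟨hk, hk1⟩
      rw [← h7] at h8
      obtain ⟨⟨g, hg⟩, hgk⟩ := h8
      have h9 : g • k0 = k := hgk
      rw [← h9, ConjAct.smul_def]
      exact orderOf_injective (MulAut.conj (ConjAct.ofConjAct g)).toMonoidHom (MulAut.conj (ConjAct.ofConjAct g)).injective k0
    have h2K : 2 ∣ Nat.card K := by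
      rw [hKc, ← hf]
      exact (by norm_num : 2 ∣ 6).trans h6
    have h3K : 3 ∣ Nat.card K := by
      rw [hKc, ← hf]
      exact (by norm_num : 3 ∣ 6).trans h6
    have := Fact.mk Nat.prime_two
    have := Fact.mk Nat.prime_three
    obtain ⟨u, hu⟩ := exists_prime_orderOf_dvd_card' 2 h2K
    obtain ⟨v, hv⟩ := exists_prime_orderOf_dvd_card' 3 h3K
    have hu1 : (u : G) ≠ 1 := by
      intro h
      rw [OneMemClass.coe_eq_one] at h
      rw [h, orderOf_one] at hu
      omega
    have hv1 : (v : G) ≠ 1 := by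
      intro h
      rw [OneMemClass.coe_eq_one] at h
      rw [h, orderOf_one] at hv
      omega
    have e1 := hord u u.2 hu1
    have e2 := hord v v.2 hv1
    rw [Subgroup.orderOf_coe, hu] at e1
    rw [Subgroup.orderOf_coe, hv] at e2
    omega

end Cfsg.Agent.H245.Pron
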