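import Cfsg.Agent.H245.PronBlock

/-!
# Pronormal subgroups of transitive groups: triple transitivity
-/

set_option autoImplicit false
set_option linter.unusedSectionVars false

namespace Cfsg.Agent.H245.Pron

open MulAction

/-- doubly regular tournaments -/
theorem tourn {V : Type} [Fintype V] (T : V → V → Prop) (e s : ℕ) (hV : 0 < Fintype.card V) (he : 0 < e)
    (hirr : ∀ u, ¬ T u u) (ht : ∀ u v, u ≠ v → (T u v ↔ ¬ T v u))
    (hout : ∀ u, {z | T u z}.ncard = e)
    (hs : ∀ u v, u ≠ v → {z | T z u ∧ T z v}.ncard + {z | T u z ∧ T v z}.ncard = s) :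
    Fintype.card V = 2 * e + 1 ∧ s + 1 = e := by
  classical
  have hout' : ∀ u, (Finset.univ.filter fun z => T u z).card = e := by
    intro u
    rw [← hout u, Set.ncard_eq_toFinset_card']
    congr 1
    ext z
    simp
  have hs' : ∀ u v, u ≠ v → (Finset.univ.filter fun z => T z u ∧ T z v).card +
      (Finset.univ.filter fun z => T u z ∧ T v z).card = s := by
    intro u v huv
    rw [← hs u v huv, Set.ncard_eq_toFinset_card', Set.ncard_eq_toFinset_card']
    congr 1
    · congr 1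
      ext z
      simp
    · congr 1
      ext z
      simp
  -- in-degrees
  have hin : ∀ u, (Finset.univ.filter fun z => T z u).card + e + 1 = Fintype.card V := by
    intro u
    have h1 : (Finset.univ : Finset V) = (Finset.univ.filter fun z => T z u) ∪ (Finset.univ.filter fun z => T u z) ∪ {u} := by
      ext z
      simp only [Finset.mem_univ, Finset.mem_union, Finset.mem_filter, Finset.mem_singleton, true_and, true_iff]
      by_cases hz : z = u
      · exact Or.inr hz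
      · left
        by_cases h : T z u
        · exact Or.inl h
        · right
          rw [ht u z (Ne.symm hz)]
          exact h
    have h2 : Disjoint (Finset.univ.filter fun z => T z u) (Finset.univ.filter fun z => T u z) := by
      rw [Finset.disjoint_filter]
      intro z _ h3 h4
      have hne : u ≠ z := by
        rintro rfl
        exact hirr _ h3
      exact (ht u z hne).1 h4 h3
    have h3 : Disjoint ((Finset.univ.filter fun z => T z u) ∪ (Finset.univ.filter fun z => T u z)) {u} := by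
      rw [Finset.disjoint_singleton_right]
      simp [hirr]
    have h4 := congrArg Finset.card h1
    rw [Finset.card_union_of_disjoint h3, Finset.card_union_of_disjoint h2, hout' u,
      Finset.card_singleton, Finset.card_univ] at h4
    exact h4.symm
  -- sum of the out-degrees = sum of the in-degrees
  have hsum : ∑ u : V, (Finset.univ.filter fun z => T u z).card = ∑ u : V, (Finset.univ.filter fun z => T z u).card := by
    simp only [Finset.card_filter]
    exact Finset.sum_comm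
  have hin0 : ∀ u, (Finset.univ.filter fun z => T z u).card = Fintype.card V - 1 - e := by
    intro u
    have := hin u
    omega
  simp only [hout', hin0, Finset.sum_const, Finset.card_univ, smul_eq_mul] at hsum
  have h1 := Nat.eq_of_mul_eq_mul_left hV hsum
  obtain ⟨u0⟩ : Nonempty V := Fintype.card_pos_iff.1 hV
  have h2 := hin u0
  rw [hin0 u0] at h2
  have hVe : Fintype.card V = 2 * e + 1 := by omega
  refine ⟨hVe, ?_⟩
  have hin' : ∀ u, (Finset.univ.filter fun z => T z u).card = e := by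
    intro u
    rw [hin0]
    omega
  -- count the triples
  have hA : ∀ R : V → V → Prop, (∀ z, (Finset.univ.filter fun u => R z u).card = e) →
      ∑ p ∈ (Finset.univ : Finset (V × V)).filter (fun p => p.1 ≠ p.2), (Finset.univ.filter fun z => R z p.1 ∧ R z p.2).card =
      Fintype.card V * (e * e - e) := by
    intro R hR
    have h3 : ∑ p ∈ (Finset.univ : Finset (V × V)).filter (fun p => p.1 ≠ p.2), (Finset.univ.filter fun z => R z p.1 ∧ R z p.2).card =
        ∑ z : V, ((Finset.univ.filter fun u => R z u).offDiag).card := by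
      simp only [Finset.card_filter]
      rw [Finset.sum_comm]
      refine Finset.sum_congr rfl fun z _ => ?_
      rw [← Finset.card_filter]
      congr 1
      ext ⟨x, y⟩
      simp only [Finset.mem_filter, Finset.mem_univ, Finset.mem_offDiag, true_and]
      tauto
    rw [h3]
    simp only [Finset.offDiag_card, hR, Finset.sum_const, Finset.card_univ, smul_eq_mul]
  have hB : ∑ p ∈ (Finset.univ : Finset (V × V)).filter (fun p => p.1 ≠ p.2),
      ((Finset.univ.filter fun z => T z p.1 ∧ T z p.2).card + (Finset.univ.filter fun z => T p.1 z ∧ T p.2 z).card) =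
      (Fintype.card V * Fintype.card V - Fintype.card V) * s := by
    have h3 : ∀ p ∈ (Finset.univ : Finset (V × V)).filter (fun p => p.1 ≠ p.2),
        ((Finset.univ.filter fun z => T z p.1 ∧ T z p.2).card + (Finset.univ.filter fun z => T p.1 z ∧ T p.2 z).card) = s := by
      intro p hp
      exact hs' _ _ (Finset.mem_filter.1 hp).2
    rw [Finset.sum_congr rfl h3, Finset.sum_const, smul_eq_mul]
    congr 1
    have h4 : (Finset.univ : Finset (V × V)).filter (fun p => p.1 ≠ p.2) = (Finset.univ : Finset V).offDiag := by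
      ext ⟨x, y⟩
      simp
    rw [h4, Finset.offDiag_card, Finset.card_univ]
  rw [Finset.sum_add_distrib, hA T hout', hA (fun x y => T y x) hin', hVe] at hB
  have h5 : (2 * e + 1) * (2 * e + 1) - (2 * e + 1) = (2 * e + 1) * (2 * e) := by
    rw [← Nat.mul_sub_one]
    rfl
  rw [h5] at hB
  have h6 : e * e - e = e * (e - 1) := by rw [Nat.mul_sub_one]
  rw [h6] at hB
  have h7 : (2 * e + 1) * (2 * e) * (e - 1) = (2 * e + 1) * (2 * e) * s := by
    rw [← hB]; ring
  have h8 := Nat.eq_of_mul_eq_mul_left (by positivity) h7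
  omega

/-- a regular graph of odd valency has an even number of vertices -/
theorem even_card {V : Type} [Fintype V] (T : V → V → Prop) (hirr : ∀ u, ¬ T u u) (hsy : ∀ u v, T u v → T v u)
    (hout : ∀ u, Odd {z | T u z}.ncard) : Even (Fintype.card V) := by
  classical
  let Γ : SimpleGraph V := { Adj := T, symm := ⟨fun u v h => hsy u v h⟩, loopless := ⟨fun u h => hirr u h⟩ }
  have h1 : ∀ v, Odd (Γ.degree v) := by
    intro v
    have := hout v
    rw [Set.ncard_eq_toFinset_card'] at this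
    convert this using 2
    rw [← SimpleGraph.card_neighborFinset_eq_degree]
    congr 1
  have h2 := Γ.even_card_odd_degree_vertices
  have h3 : (Finset.univ.filter fun v => Odd (Γ.degree v)) = Finset.univ := by
    ext v
    simp [h1 v]
  rw [h3, Finset.card_univ] at h2
  exact h2

open scoped Pointwise

variable {G Ω : Type} [Group G] [MulAction G Ω]
variable [Finite G] [Finite Ω] [IsPretransitive G Ω] {K : Subgroup G} {n : ℕ}

theorem ncard_compl_singleton (hn : Nat.card Ω = n) (a : Ω) : ({a}ᶜ : Set Ω).ncard + 1 = n := by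
  have := Set.ncard_add_ncard_compl ({a} : Set Ω)
  rw [Set.ncard_singleton, hn] at this
  omega

theorem orbit_eq_compl (hK : Pro K) (hn : Nat.card Ω = n) (hB : ∀ m < n, Bd m) (hmv : ∃ x : Ω, x ∉ Fx K Ω)
    (h2 : n ≤ 2 * (Fx K Ω).ncard) {a b : Ω} (ha : a ∈ Fx K Ω) (hb : b ≠ a) :
    orbit (Lg K (sg K a)) b = {a}ᶜ := by
  refine Set.Subset.antisymm (orbit_sub hb) fun y hy => ?_
  obtain ⟨l, hl, rfl⟩ := (step_eq hK hn hB hmv h2).2 a ha b y hb hy
  exact ⟨⟨l, hl⟩, rfl⟩

theorem step_moved2 (hK : Pro K) (hn : Nat.card Ω = n) (hB : ∀ m < n, Bd m) (hmv : ∃ x : Ω, x ∉ Fx K Ω)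
    (h2 : n ≤ 2 * (Fx K Ω).ncard) {a b c : Ω} (ha : a ∈ Fx K Ω) (hb : b ∈ Fx K Ω) (hab : b ≠ a)
    (hca : c ≠ a) (hcb : c ≠ b) : ∃ g ∈ sg K a ∩ sg K b, g⁻¹ • c ∉ Fx K Ω := by
  by_contra hcon
  push Not at hcon
  have h1 := one_mem_sg ha
  have hor := orbit_eq_compl hK hn hB hmv h2 ha hab
  have hco : c ∈ orbit (Lg K (sg K a)) b := by rw [hor]; exact hca
  have hcc := ncard_compl_singleton hn a
  have hfc := ncard_inter_compl (K := K) ha
  have hcard : Nat.card (orbit (Lg K (sg K a)) b) = n - 1 := by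
    rw [Nat.card_coe_set_eq, hor]
    omega
  have h3 := block_bd (G := Lg K (sg K a)) (Ω := orbit (Lg K (sg K a)) b) (K := K.subgroupOf (Lg K (sg K a)))
    (n := n - 1) (b := ⟨b, mem_orbit_self b⟩) (c := ⟨c, hco⟩) (hK.subgroupOf (le_Lg h1)) hcard
    (fun m hm => hB m (by omega)) ?_ ?_ ?_ ((mem_Fx_orbit (le_Lg h1) _).2 hb) ?_
  · exact hcb (congrArg Subtype.val h3)
  · intro x y
    obtain ⟨l, hl⟩ := exists_smul_eq (Lg K (sg K a)) x y
    exact ⟨l, Lg_subgroupOf hK h1 l, hl⟩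
  · obtain ⟨x, hx⟩ := hmv
    have hxa : x ∈ orbit (Lg K (sg K a)) b := by
      rw [hor]
      rintro rfl
      exact hx ha
    exact ⟨⟨x, hxa⟩, fun h => hx ((mem_Fx_orbit (le_Lg h1) _).1 h)⟩
  · rw [ncard_Fx_orbit (le_Lg h1), hor]
    omega
  · intro g hg
    rw [mem_Fx_orbit (le_Lg h1)] at hg ⊢
    refine hcon (g : G) ⟨?_, hg⟩
    have h4 : (g : G)⁻¹ • a = a := fix_a (K := K) (inv_mem g.2)
    show (g : G)⁻¹ • a ∈ Fx K Ω
    rw [h4]
    exact ha

/-- the stabilizer of two points -/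
def Hs (G : Type) {Ω : Type} [Group G] [MulAction G Ω] (a b : Ω) : Subgroup G := stabilizer G a ⊓ stabilizer G b

theorem mem_Hs {a b : Ω} {g : G} : g ∈ Hs G a b ↔ g • a = a ∧ g • b = b := Iff.rfl

theorem Lg_le_Hs {a b : Ω} {l : G} (hl : l ∈ Lg K (sg K a ∩ sg K b)) : l ∈ Hs G a b :=
  ⟨Lg_fix (fun _ h => h.1) l hl, Lg_fix (fun _ h => h.2) l hl⟩

theorem ncard_pair_compl (hn : Nat.card Ω = n) {a b : Ω} (hab : b ≠ a) : ({x | x ≠ a ∧ x ≠ b} : Set Ω).ncard + 2 = n := by
  have h1 := Set.ncard_add_ncard_compl ({a, b} : Set Ω)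
  rw [Set.ncard_pair (Ne.symm hab), hn] at h1
  have h2 : ({a, b} : Set Ω)ᶜ = {x | x ≠ a ∧ x ≠ b} := by
    ext x
    simp
  rw [h2] at h1
  omega

theorem ncard_inter_pair {a b : Ω} (ha : a ∈ Fx K Ω) (hb : b ∈ Fx K Ω) (hab : b ≠ a) :
    (Fx K Ω ∩ {x | x ≠ a ∧ x ≠ b}).ncard + 2 = (Fx K Ω).ncard := by
  have h1 : Fx K Ω ∩ {x | x ≠ a ∧ x ≠ b} = Fx K Ω \ {a, b} := by
    ext x
    simp
  rw [h1, ← Set.ncard_pair (Ne.symm hab)]
  refine Set.ncard_sdiff_add_ncard_of_subset ?_
  rintro x (rfl | rfl)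
  · exact ha
  · exact hb

theorem inv_bd (hK : Pro K) (hn : Nat.card Ω = n) (hB : ∀ m < n, Bd m) (hmv : ∃ x : Ω, x ∉ Fx K Ω)
    (h2 : n ≤ 2 * (Fx K Ω).ncard) {a b : Ω} (ha : a ∈ Fx K Ω) (hb : b ∈ Fx K Ω) (hab : b ≠ a)
    {Δ : Set Ω} (hne : Δ.Nonempty) (hΔ : Δ ⊆ {x | x ≠ a ∧ x ≠ b}) (hinv : ∀ h ∈ Hs G a b, ∀ x ∈ Δ, h • x ∈ Δ) :
    2 * (Fx K Ω ∩ Δ).ncard + 1 ≤ Δ.ncard := by
  refine set_bd hK (S := sg K a ∩ sg K b) ⟨one_mem_sg ha, one_mem_sg hb⟩ hB _ Δ rfl hne
    (fun l hl => hinv l (Lg_le_Hs hl)) (fun x hx => step_moved2 hK hn hB hmv h2 ha hb hab (hΔ hx).1 (hΔ hx).2) ?_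
  intro x hx
  have h3 : orbit (Lg K (sg K a ∩ sg K b)) x ⊆ {x | x ≠ a ∧ x ≠ b} := by
    rintro y ⟨l, rfl⟩
    exact hΔ (hinv l (Lg_le_Hs l.2) x hx)
  have h4 := Set.ncard_le_ncard h3 (Set.toFinite _)
  have h5 := ncard_pair_compl hn hab
  omega

theorem orbit_inv {H : Subgroup G} {x : Ω} : ∀ h ∈ H, ∀ y ∈ orbit H x, h • y ∈ orbit H x := by
  rintro h hh y ⟨w, rfl⟩
  refine ⟨⟨h, hh⟩ * w, ?_⟩
  show ((⟨h, hh⟩ : H) * w) • x = _
  rw [mul_smul]
  rfl

theorem two_orbits (hK : Pro K) (hn : Nat.card Ω = n) (hB : ∀ m < n, Bd m) (hmv : ∃ x : Ω, x ∉ Fx K Ω)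
    (h2 : n ≤ 2 * (Fx K Ω).ncard) {a b x y : Ω} (ha : a ∈ Fx K Ω) (hb : b ∈ Fx K Ω) (hab : b ≠ a)
    (hx : x ≠ a ∧ x ≠ b) (hy : y ≠ a ∧ y ≠ b) (hxy : y ∉ orbit (Hs G a b) x) :
    (∀ z, z ≠ a → z ≠ b → z ∈ orbit (Hs G a b) x ∨ z ∈ orbit (Hs G a b) y) ∧
    Odd (orbit (Hs G a b) x).ncard ∧ Odd (orbit (Hs G a b) y).ncard := by
  have hsub : ∀ z : Ω, z ≠ a ∧ z ≠ b → orbit (Hs G a b) z ⊆ {x | x ≠ a ∧ x ≠ b} := by
    rintro z ⟨hz1, hz2⟩ w ⟨⟨l, hl⟩, rfl⟩
    have h3 := mem_Hs.1 hl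
    refine ⟨fun h => hz1 ?_, fun h => hz2 ?_⟩
    · have h4 : l • z = a := h
      rw [← h3.1] at h4
      exact smul_left_cancel _ h4
    · have h4 : l • z = b := h
      rw [← h3.2] at h4
      exact smul_left_cancel _ h4
  have hdis : Disjoint (orbit (Hs G a b) x) (orbit (Hs G a b) y) := by
    rw [Set.disjoint_left]
    intro z hz1 hz2
    apply hxy
    rw [← orbit_eq_iff] at hz1 hz2 ⊢
    rw [← hz1, ← hz2]
  have hdis' : Disjoint (Fx K Ω ∩ orbit (Hs G a b) x) (Fx K Ω ∩ orbit (Hs G a b) y) :=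
    hdis.mono Set.inter_subset_right Set.inter_subset_right
  have e1 := inv_bd hK hn hB hmv h2 ha hb hab ⟨x, mem_orbit_self x⟩ (hsub x hx) orbit_inv
  have e2 := inv_bd hK hn hB hmv h2 ha hb hab ⟨y, mem_orbit_self y⟩ (hsub y hy) orbit_inv
  have hn2 := (step_eq hK hn hB hmv h2).1
  have c1 := ncard_pair_compl hn hab
  have c2 := ncard_inter_pair (K := K) ha hb hab
  have hU : orbit (Hs G a b) x ∪ orbit (Hs G a b) y ⊆ {x | x ≠ a ∧ x ≠ b} := Set.union_subset (hsub x hx) (hsub y hy)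
  by_cases hR : ({x | x ≠ a ∧ x ≠ b} \ (orbit (Hs G a b) x ∪ orbit (Hs G a b) y)).Nonempty
  · exfalso
    have e3 := inv_bd hK hn hB hmv h2 ha hb hab hR Set.sdiff_subset ?_
    · have d1 : ({x | x ≠ a ∧ x ≠ b} \ (orbit (Hs G a b) x ∪ orbit (Hs G a b) y)).ncard +
          (orbit (Hs G a b) x ∪ orbit (Hs G a b) y).ncard = ({x | x ≠ a ∧ x ≠ b} : Set Ω).ncard :=
        Set.ncard_sdiff_add_ncard_of_subset hU
      rw [Set.ncard_union_eq hdis] at d1
      have d2 : (Fx K Ω ∩ {x | x ≠ a ∧ x ≠ b}).ncard =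
          (Fx K Ω ∩ ({x | x ≠ a ∧ x ≠ b} \ (orbit (Hs G a b) x ∪ orbit (Hs G a b) y))).ncard +
          ((Fx K Ω ∩ orbit (Hs G a b) x).ncard + (Fx K Ω ∩ orbit (Hs G a b) y).ncard) := by
        rw [← Set.ncard_union_eq hdis', ← Set.inter_union_distrib_left, ← Set.ncard_union_eq]
        · congr 1
          rw [← Set.inter_union_distrib_left, Set.sdiff_union_of_subset hU]
        · rw [Set.disjoint_left]
          rintro y ⟨-, hy⟩ ⟨-, hy'⟩
          exact hy.2 hy'
      omega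
    · rintro h hh z ⟨hz1, hz2⟩
      refine ⟨hsub z hz1 ⟨⟨h, hh⟩, rfl⟩, ?_⟩
      rintro (h3 | h3)
      · apply hz2
        left
        have := orbit_inv _ (inv_mem hh) _ h3
        rwa [inv_smul_smul] at this
      · apply hz2
        right
        have := orbit_inv _ (inv_mem hh) _ h3
        rwa [inv_smul_smul] at this
  · rw [Set.not_nonempty_iff_eq_empty, Set.sdiff_eq_empty] at hR
    have hU' := Set.Subset.antisymm hU hR
    refine ⟨fun z hz1 hz2 => hR ⟨hz1, hz2⟩, ?_⟩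
    rw [← hU', Set.ncard_union_eq hdis] at c1
    rw [← hU', Set.inter_union_distrib_left, Set.ncard_union_eq hdis'] at c2
    constructor
    · exact ⟨(Fx K Ω ∩ orbit (Hs G a b) x).ncard, by omega⟩
    · exact ⟨(Fx K Ω ∩ orbit (Hs G a b) y).ncard, by omega⟩

end Cfsg.Agent.H245.Pron
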