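import Cfsg.Agent.H245.PronThree

/-!
# Pronormal subgroups of transitive groups: the tournament
-/

set_option autoImplicit false
set_option linter.unusedSectionVars false

namespace Cfsg.Agent.H245.Pron

open MulAction

variable {G Ω : Type} [Group G] [MulAction G Ω]

/-- the `G_a`-orbital of `(b, x)` on the points different from `a` -/
def Tr (G : Type) {Ω : Type} [Group G] [MulAction G Ω] (a b x : Ω) (u v : {z : Ω // z ≠ a}) : Prop :=
  ∃ g : G, g • a = a ∧ g • b = (u : Ω) ∧ g • x = (v : Ω)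

/-- the permutation of the points different from `a` -/
def pm (a : Ω) (g : G) (hg : g • a = a) : {z : Ω // z ≠ a} ≃ {z : Ω // z ≠ a} :=
  (MulAction.toPerm g).subtypeEquiv (fun z => by
    constructor
    · intro h h2
      apply h
      rw [← hg] at h2
      exact smul_left_cancel g h2
    · rintro h rfl
      exact h hg)

theorem pm_val {a : Ω} {g : G} (hg : g • a = a) (z : {z : Ω // z ≠ a}) : ((pm a g hg z : {z : Ω // z ≠ a}) : Ω) = g • (z : Ω) :=
  rfl

theorem Tr_pm {a b x : Ω} {g : G} (hg : g • a = a) (u v : {z : Ω // z ≠ a}) :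
    Tr G a b x (pm a g hg u) (pm a g hg v) ↔ Tr G a b x u v := by
  constructor
  · rintro ⟨h, h1, h2, h3⟩
    refine ⟨g⁻¹ * h, ?_, ?_, ?_⟩
    · rw [mul_smul, h1, inv_smul_eq_iff, hg]
    · rw [mul_smul, h2, pm_val, inv_smul_smul]
    · rw [mul_smul, h3, pm_val, inv_smul_smul]
  · rintro ⟨h, h1, h2, h3⟩
    refine ⟨g * h, ?_, ?_, ?_⟩
    · rw [mul_smul, h1, hg]
    · rw [mul_smul, h2, pm_val]
    · rw [mul_smul, h3, pm_val]

theorem ncard_pm {a : Ω} {g : G} (hg : g • a = a) (P Q : {z : Ω // z ≠ a} → Prop)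
    (h : ∀ z, P (pm a g hg z) ↔ Q z) : {z | P z}.ncard = {z | Q z}.ncard := by
  have h1 : {z | P z} = (pm a g hg) '' {z | Q z} := by
    ext z
    constructor
    · intro hz
      refine ⟨(pm a g hg).symm z, ?_, (pm a g hg).apply_symm_apply z⟩
      have := h ((pm a g hg).symm z)
      rw [(pm a g hg).apply_symm_apply] at this
      exact this.1 hz
    · rintro ⟨w, hw, rfl⟩
      exact (h w).2 hw
  rw [h1, Set.ncard_image_of_injective _ (pm a g hg).injective]

variable [Finite G] [Finite Ω] [IsPretransitive G Ω] {K : Subgroup G} {n : ℕ}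

theorem Tr_out {a b x : Ω} (ht : ∀ u : Ω, u ≠ a → ∃ g : G, g • a = a ∧ g • b = u) (hxa : x ≠ a)
    (u : {z : Ω // z ≠ a}) :
    {v | Tr G a b x u v}.ncard = (orbit (Hs G a b) x).ncard := by
  obtain ⟨g, hg1, hg2⟩ := ht u u.2
  have hg' : g⁻¹ • a = a := by rw [inv_smul_eq_iff, hg1]
  have h1 : (Subtype.val '' {v | Tr G a b x u v}) = (fun z => g • z) '' (orbit (Hs G a b) x) := by
    ext z
    constructor
    · rintro ⟨v, ⟨h, h1, h2, h3⟩, rfl⟩
      refine ⟨(g⁻¹ * h) • x, ⟨⟨g⁻¹ * h, ?_, ?_⟩, rfl⟩, ?_⟩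
      · show (g⁻¹ * h) • a = a
        rw [mul_smul, h1, hg']
      · show (g⁻¹ * h) • b = b
        rw [mul_smul, h2, ← hg2, inv_smul_smul]
      · show g • (g⁻¹ * h) • x = _
        rw [mul_smul, smul_inv_smul, h3]
    · rintro ⟨w, ⟨⟨h, hh⟩, rfl⟩, rfl⟩
      have h2 := mem_Hs.1 hh
      have h3 : (g * h) • a = a := by rw [mul_smul, h2.1, hg1]
      have h4 : (g * h) • x ≠ a := by
        intro h5
        rw [← h3] at h5
        exact hxa (smul_left_cancel _ h5)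
      refine ⟨⟨(g * h) • x, h4⟩, ⟨g * h, h3, ?_, rfl⟩, ?_⟩
      · rw [mul_smul, h2.2, hg2]
      · show (g * h) • x = g • h • x
        rw [mul_smul]
  rw [← Set.ncard_image_of_injective _ Subtype.val_injective, h1,
    Set.ncard_image_of_injective _ (MulAction.injective g)]

theorem three_core (hK : Pro K) (hn : Nat.card Ω = n) (hB : ∀ m < n, Bd m) (hmv : ∃ x : Ω, x ∉ Fx K Ω)
    (h2 : n ≤ 2 * (Fx K Ω).ncard) {a b x y : Ω} (ha : a ∈ Fx K Ω) (hb : b ∈ Fx K Ω) (hab : b ≠ a)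
    (hx : x ≠ a ∧ x ≠ b) (hy : y ≠ a ∧ y ≠ b) : ∃ g : G, g • a = a ∧ g • b = b ∧ g • x = y := by
  classical
  by_contra hcon
  have hxy : y ∉ orbit (Hs G a b) x := by
    rintro ⟨⟨g, hg⟩, rfl⟩
    exact hcon ⟨g, hg.1, hg.2, rfl⟩
  have := Fintype.ofFinite Ω
  obtain ⟨hcov, hox, hoy⟩ := two_orbits hK hn hB hmv h2 ha hb hab hx hy hxy
  obtain ⟨hn2, htr⟩ := step_eq hK hn hB hmv h2
  have ht : ∀ u : Ω, u ≠ a → ∃ g : G, g • a = a ∧ g • b = u := by
    intro u hu
    obtain ⟨l, hl, hl2⟩ := htr a ha b u hab hu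
    exact ⟨l, fix_a hl, hl2⟩
  let V := {z : Ω // z ≠ a}
  have hV : Fintype.card V + 1 = n := by
    have h1 := ncard_compl_singleton hn a
    have h3 : ({a}ᶜ : Set Ω).ncard = Fintype.card V := by
      rw [← Nat.card_eq_fintype_card, ← Nat.card_coe_set_eq]
      rfl
    omega
  -- (t1), (t2)
  have t1 : ∀ u v : V, u ≠ v → Tr G a b x u v ∨ Tr G a b y u v := by
    intro u v huv
    obtain ⟨g, hg1, hg2⟩ := ht u u.2
    have h1 : g⁻¹ • (v : Ω) ≠ a := by
      intro h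
      rw [inv_smul_eq_iff, hg1] at h
      exact v.2 h
    have h3 : g⁻¹ • (v : Ω) ≠ b := by
      intro h
      rw [inv_smul_eq_iff, hg2] at h
      exact huv (Subtype.ext h.symm)
    rcases hcov _ h1 h3 with h4 | h4
    · left
      obtain ⟨⟨h, hh⟩, h5⟩ := h4
      have h5' : h • x = g⁻¹ • (v : Ω) := h5
      have h6 := mem_Hs.1 hh
      exact ⟨g * h, by rw [mul_smul, h6.1, hg1], by rw [mul_smul, h6.2, hg2], by rw [mul_smul, h5', smul_inv_smul]⟩
    · right
      obtain ⟨⟨h, hh⟩, h5⟩ := h4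
      have h5' : h • y = g⁻¹ • (v : Ω) := h5
      have h6 := mem_Hs.1 hh
      exact ⟨g * h, by rw [mul_smul, h6.1, hg1], by rw [mul_smul, h6.2, hg2], by rw [mul_smul, h5', smul_inv_smul]⟩
  have t2 : ∀ u v : V, Tr G a b x u v → Tr G a b y u v → False := by
    rintro u v ⟨g, g1, g2, g3⟩ ⟨h, h1, h3, h4⟩
    apply hxy
    refine ⟨⟨h⁻¹ * g, ?_, ?_⟩, ?_⟩
    · show (h⁻¹ * g) • a = a
      rw [mul_smul, g1, inv_smul_eq_iff, h1]
    · show (h⁻¹ * g) • b = b
      rw [mul_smul, g2, inv_smul_eq_iff, h3]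
    · show (h⁻¹ * g) • x = y
      rw [mul_smul, g3, inv_smul_eq_iff, h4]
  have t3 : ∀ (w : Ω), w ≠ b → ∀ u : V, ¬ Tr G a b w u u := by
    rintro w hw u ⟨g, -, g2, g3⟩
    rw [← g2] at g3
    exact hw (smul_left_cancel g g3)
  -- composition
  have comp : ∀ (p q r : Ω) (hp : p ≠ a), Tr G a b q ⟨p, hp⟩ ⟨b, hab⟩ → ∀ u v : V, Tr G a b p u v → Tr G a b q v u := by
    rintro p q r hp ⟨g, g1, g2, g3⟩ u v ⟨h, h1, h3, h4⟩
    refine ⟨h * g, by rw [mul_smul, g1, h1], ?_, ?_⟩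
    · rw [mul_smul, g2]; exact h4
    · rw [mul_smul, g3]; exact h3
  have hVodd : ¬ Even (Fintype.card V) := by
    rw [Nat.not_even_iff_odd]
    exact ⟨(Fx K Ω).ncard - 1, by
      have h3 : 0 < (Fx K Ω).ncard := (Set.ncard_pos (Set.toFinite _)).2 ⟨a, ha⟩
      omega⟩
  have t5 : ∀ (w : Ω) (hw : w ≠ a ∧ w ≠ b), Odd (orbit (Hs G a b) w).ncard → ¬ Tr G a b w ⟨w, hw.1⟩ ⟨b, hab⟩ := by
    intro w hw ho hcon
    apply hVodd
    refine even_card (Tr G a b w) (t3 w hw.2) (comp w w w hw.1 hcon) fun u => ?_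
    rw [Tr_out ht hw.1]
    exact ho
  have s1 : Tr G a b y ⟨x, hx.1⟩ ⟨b, hab⟩ :=
    (t1 _ _ (fun h => hx.2 (congrArg Subtype.val h))).resolve_left (t5 x hx hox)
  have s2 : Tr G a b x ⟨y, hy.1⟩ ⟨b, hab⟩ :=
    (t1 _ _ (fun h => hy.2 (congrArg Subtype.val h))).resolve_right (t5 y hy hoy)
  have t6 : ∀ u v : V, Tr G a b x u v → Tr G a b y v u := comp x y x hx.1 s1
  have t6' : ∀ u v : V, Tr G a b y u v → Tr G a b x v u := comp y x x hy.1 s2
  have t7 : ∀ u v : V, u ≠ v → (Tr G a b x u v ↔ ¬ Tr G a b x v u) := by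
    intro u v huv
    constructor
    · intro h h'
      exact t2 _ _ h' (t6 _ _ h)
    · intro h
      exact t6' _ _ ((t1 v u (Ne.symm huv)).resolve_left h)
  -- the numbers
  let T : V → V → Prop := Tr G a b x
  let S : V → V → ℕ := fun u v => {z | T z u ∧ T z v}.ncard + {z | T u z ∧ T v z}.ncard
  have hSsymm : ∀ u v, S u v = S v u := by
    intro u v
    simp only [S]
    congr 2
    · ext z; exact and_comm
    · ext z; exact and_comm
  have hSpm : ∀ (g : G) (hg : g • a = a) (u v : V), S (pm a g hg u) (pm a g hg v) = S u v := by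
    intro g hg u v
    simp only [S]
    congr 1
    · apply ncard_pm hg
      intro z
      simp only [T, Tr_pm]
    · apply ncard_pm hg
      intro z
      simp only [T, Tr_pm]
  have hST : ∀ u v : V, T u v → S u v = S ⟨b, hab⟩ ⟨x, hx.1⟩ := by
    rintro u v ⟨g, g1, g2, g3⟩
    rw [← hSpm g g1 ⟨b, hab⟩ ⟨x, hx.1⟩]
    congr 1
    · exact Subtype.ext g2.symm
    · exact Subtype.ext g3.symm
  have hS : ∀ u v : V, u ≠ v → S u v = S ⟨b, hab⟩ ⟨x, hx.1⟩ := by
    intro u v huv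
    by_cases h : T u v
    · exact hST u v h
    · rw [hSsymm]
      exact hST v u (not_not.1 fun h' => h ((t7 u v huv).2 h'))
  have hVpos : 0 < Fintype.card V := Fintype.card_pos_iff.2 ⟨⟨b, hab⟩⟩
  have hepos : 0 < (orbit (Hs G a b) x).ncard := (Set.ncard_pos (Set.toFinite _)).2 ⟨x, mem_orbit_self x⟩
  obtain ⟨e1, e2⟩ := tourn T (orbit (Hs G a b) x).ncard (S ⟨b, hab⟩ ⟨x, hx.1⟩) hVpos hepos (t3 x hx.2) t7
    (Tr_out ht hx.1) hS
  -- a point moved by `K`
  obtain ⟨w, hw⟩ := hmv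
  have hmv' := hw
  simp only [mem_Fx, not_forall] at hw
  obtain ⟨k, hk, hkw⟩ := hw
  have hka : k • a = a := ha k hk
  have hwa : w ≠ a := by
    rintro rfl
    exact hkw hka
  let u : V := ⟨w, hwa⟩
  let v : V := pm a k hka u
  have huv : u ≠ v := fun h => hkw (congrArg Subtype.val h).symm
  have h5 : {z : V | (z : Ω) ∈ Fx K Ω} ⊆ {z | T z u ∧ T z v} ∪ {z | T u z ∧ T v z} := by
    intro z hz
    have hkz : pm a k hka z = z := Subtype.ext (hz k hk)
    have hzu : z ≠ u := by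
      rintro rfl
      exact hmv' hz
    by_cases h : T z u
    · left
      refine ⟨h, ?_⟩
      have := (Tr_pm (b := b) (x := x) hka z u).2 h
      rw [hkz] at this
      exact this
    · right
      have h6 : T u z := by
        by_contra h7
        exact h ((t7 z u hzu).2 h7)
      refine ⟨h6, ?_⟩
      have := (Tr_pm (b := b) (x := x) hka u z).2 h6
      rw [hkz] at this
      exact this
  have h6 := (Set.ncard_le_ncard h5 (Set.toFinite _)).trans (Set.ncard_union_le _ _)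
  have h7 : {z : V | (z : Ω) ∈ Fx K Ω}.ncard + 1 = (Fx K Ω).ncard := by
    rw [← ncard_inter_compl ha, ← Set.ncard_image_of_injective _ Subtype.val_injective]
    congr 2
    ext z
    constructor
    · rintro ⟨z', hz', rfl⟩
      exact ⟨hz', z'.2⟩
    · rintro ⟨h8, h9⟩
      exact ⟨⟨z, h9⟩, h8, rfl⟩
  have h8 : {z | T z u ∧ T z v}.ncard + {z | T u z ∧ T v z}.ncard = S ⟨b, hab⟩ ⟨x, hx.1⟩ := hS u v huv
  omega

end Cfsg.Agent.H245.Pron
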