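import Mathlib
import Cfsg.Prelude.Def_Classical
import Cfsg.Agent.GH.Cov.LFour

/-!
# `PSL(4,q)`, `q ≡ 1 (mod 4)`, and `PSU(4,q)`, `q ≡ 3 (mod 4)`: a transitive elementary abelian subgroup of order 16

Variant of `GH.Cov.Pauli`, `GH.Cov.LFour` with the transitivity in the conclusion: there is an elementary abelian
subgroup of order 16 all of whose involutions are conjugate in the group.
-/

set_option autoImplicit false

namespace Cfsg.Agent.H245.Trans16

open Cfsg Subgroup Matrix Cfsg.Agent.GH.Cov.Pauli Cfsg.Agent.GH.Cov.LFour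

/-- An elementary abelian subgroup of order 16 all of whose involutions are conjugate in `X`. -/
def Trans16 (X : Type*) [Group X] : Prop :=
  ∃ E : Subgroup X, Nat.card E = 16 ∧ (∀ a ∈ E, a * a = 1) ∧
    ∀ a ∈ E, ∀ b ∈ E, a ≠ 1 → b ≠ 1 → ∃ g : X, g * a * g⁻¹ = b

theorem Trans16.of_equiv {X Y : Type*} [Group X] [Group Y] (e : X ≃* Y) (h : Trans16 X) : Trans16 Y := by
  obtain ⟨E, h1, h2, h3⟩ := h
  refine ⟨E.map e.toMonoidHom, ?_, ?_, ?_⟩
  · rw [← h1]
    exact (Nat.card_congr (E.equivMapOfInjective e.toMonoidHom e.injective).toEquiv).symm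
  · rintro _ ⟨a, ha, rfl⟩
    rw [← map_mul, h2 a ha, map_one]
  · rintro _ ⟨a, ha, rfl⟩ _ ⟨b, hb, rfl⟩ ha1 hb1
    obtain ⟨g, hg⟩ := h3 a ha b hb (fun h => ha1 (by rw [h, map_one])) (fun h => hb1 (by rw [h, map_one]))
    refine ⟨e g, ?_⟩
    rw [← hg]
    simp

section Abs

variable {K : Type*} [Field K] (φ : GaussianInt →+* K)
variable {H : Type*} [Group H] (ι : H →* Matrix.SpecialLinearGroup (Fin 4) K)

include φ ι

/-- **Abstract form.** -/
theorem good (h2 : (2 : K) ≠ 0) (hι : Function.Injective ι)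
    (hP : ∀ n : Fin 16, ∃ h : H, (ι h : Matrix (Fin 4) (Fin 4) K) = mp φ (PZ n))
    (hC1 : ∃ (h : H) (μ : K), (ι h : Matrix (Fin 4) (Fin 4) K) = μ • mp φ C1)
    (hC3 : ∃ h : H, (ι h : Matrix (Fin 4) (Fin 4) K) = mp φ C3) :
    Trans16 (H ⧸ center H) := by
  choose p hp using hP
  obtain ⟨c1, μ, hc1⟩ := hC1
  obtain ⟨c3, hc3⟩ := hC3
  have hmul : ∀ n m : Fin 16, ∃ k : Fin 16, ((p n : H ⧸ center H) * (p m : H ⧸ center H) = p k) ∧
      (n ≠ m → k ≠ 0) := by
    intro n m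
    obtain ⟨k, l, h1, h3⟩ := mul_PZ n m
    refine ⟨k, ?_, h3⟩
    rw [← QuotientGroup.mk_mul]
    apply rel ι hι (l := φ (I ^ (l : ℕ)))
    rw [map_mul, Matrix.SpecialLinearGroup.coe_mul, hp, hp, hp, ← mp_smul, ← map_mul]
    exact mp_congr φ h1
  have h0 : (p 0 : H ⧸ center H) = 1 := by
    rw [← QuotientGroup.mk_one]
    apply rel ι hι (l := 1)
    rw [map_one, Matrix.SpecialLinearGroup.coe_one, one_smul, hp]
    rw [PZ_zero, mp, map_one]
  have hsq : ∀ n : Fin 16, (p n : H ⧸ center H) * (p n : H ⧸ center H) = 1 := by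
    intro n
    obtain ⟨l, h1⟩ := sq_PZ n
    rw [← h0, ← QuotientGroup.mk_mul]
    apply rel ι hι (l := φ (I ^ (l : ℕ)))
    rw [map_mul, Matrix.SpecialLinearGroup.coe_mul, hp, hp, ← mp_smul, ← map_mul]
    exact mp_congr φ h1
  have hne : ∀ n : Fin 16, n ≠ 0 → (p n : H ⧸ center H) ≠ 1 := by
    intro n hn h1
    rw [QuotientGroup.eq_one_iff, mem_center_iff] at h1
    obtain ⟨m, hm⟩ := anti_PZ n hn
    have h3 := congrArg (fun x => ((ι x : Matrix.SpecialLinearGroup (Fin 4) K) :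
      Matrix (Fin 4) (Fin 4) K)) (h1 (p m))
    simp only [map_mul, Matrix.SpecialLinearGroup.coe_mul] at h3
    have h4 : (ι (p n) : Matrix (Fin 4) (Fin 4) K) * (ι (p m)) +
        (ι (p m) : Matrix (Fin 4) (Fin 4) K) * (ι (p n)) = 0 := by
      rw [hp, hp, ← map_mul, ← map_mul, ← map_add]
      have : PZ n * PZ m + PZ m * PZ n = 0 := Matrix.ext hm
      rw [this, map_zero]
    rw [h3, ← two_smul K, smul_eq_zero] at h4
    rcases h4 with h4 | h4
    · exact h2 h4
    · have h5 := congrArg Matrix.det h4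
      rw [Matrix.det_mul, Matrix.SpecialLinearGroup.det_coe, Matrix.SpecialLinearGroup.det_coe,
        Matrix.det_zero] at h5
      simp at h5
  have hinj : Function.Injective fun n : Fin 16 => (p n : H ⧸ center H) := by
    intro n m h
    by_contra hnm
    obtain ⟨k, hk, hk0⟩ := hmul n m
    simp only at h
    rw [h, hsq] at hk
    exact hne k (hk0 hnm) hk.symm
  -- the subgroup
  let E : Subgroup (H ⧸ center H) :=
    { carrier := Set.range fun n : Fin 16 => (p n : H ⧸ center H)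
      mul_mem' := by
        rintro _ _ ⟨n, rfl⟩ ⟨m, rfl⟩
        obtain ⟨k, hk, -⟩ := hmul n m
        exact ⟨k, hk.symm⟩
      one_mem' := ⟨0, h0⟩
      inv_mem' := by
        rintro _ ⟨n, rfl⟩
        refine ⟨n, ?_⟩
        exact (inv_eq_of_mul_eq_one_left (hsq n)).symm }
  have hcard : Nat.card E = 16 := by
    have h1 : Nat.card E = Nat.card (Set.range fun n : Fin 16 => (p n : H ⧸ center H)) := rfl
    rw [h1, Nat.card_range_of_injective hinj, Nat.card_eq_fintype_card, Fintype.card_fin]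
  -- conjugations
  have s1 : ∀ n : Fin 16, (c1 : H ⧸ center H) * p n * (c1 : H ⧸ center H)⁻¹ = p (p1 n) := by
    intro n
    rw [mul_inv_eq_iff_eq_mul, ← QuotientGroup.mk_mul, ← QuotientGroup.mk_mul]
    obtain ⟨l, h1⟩ := c1_PZ n
    apply rel ι hι (l := φ (I ^ (l : ℕ)))
    rw [map_mul, map_mul, Matrix.SpecialLinearGroup.coe_mul, Matrix.SpecialLinearGroup.coe_mul, hp,
      hp, hc1, smul_mul_assoc, ← map_mul, mul_smul_comm, ← map_mul, smul_comm, ← mp_smul]
    congr 1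
    exact mp_congr φ h1
  have s3 : ∀ n : Fin 16, (c3 : H ⧸ center H) * p n * (c3 : H ⧸ center H)⁻¹ = p (p3 n) := by
    intro n
    rw [mul_inv_eq_iff_eq_mul, ← QuotientGroup.mk_mul, ← QuotientGroup.mk_mul]
    obtain ⟨l, h1⟩ := c3_PZ n
    apply rel ι hι (l := φ (I ^ (l : ℕ)))
    rw [map_mul, map_mul, Matrix.SpecialLinearGroup.coe_mul, Matrix.SpecialLinearGroup.coe_mul, hp,
      hp, hc3, ← map_mul, ← map_mul, ← mp_smul]
    exact mp_congr φ h1
  let R : Fin 16 → Prop := fun n => ∃ g : H ⧸ center H, g * p 1 * g⁻¹ = p n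
  have t1 : ∀ n, R n → R (p1 n) := by
    rintro n ⟨g, hg⟩
    refine ⟨(c1 : H ⧸ center H) * g, ?_⟩
    rw [← s1, ← hg]
    group
  have t3 : ∀ n, R n → R (p3 n) := by
    rintro n ⟨g, hg⟩
    refine ⟨(c3 : H ⧸ center H) * g, ?_⟩
    rw [← s3, ← hg]
    group
  have r1 : R 1 := ⟨1, by group⟩
  have r3 : R 3 := t3 1 r1
  have r2 : R 2 := t3 3 r3
  have r8 : R 8 := t1 2 r2
  have r9 : R 9 := t1 3 r3
  have r10 : R 10 := t1 8 r8
  have r11 : R 11 := t1 9 r9
  have r12 : R 12 := t3 8 r8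
  have r15 : R 15 := t3 9 r9
  have r13 : R 13 := t3 10 r10
  have r14 : R 14 := t3 11 r11
  have r4 : R 4 := t3 12 r12
  have r7 : R 7 := t3 13 r13
  have r5 : R 5 := t3 14 r14
  have r6 : R 6 := t3 15 r15
  have hR : ∀ n : Fin 16, n ≠ 0 → R n := by
    intro n hn
    fin_cases n
    · exact absurd rfl hn
    all_goals assumption
  refine ⟨E, hcard, ?_, ?_⟩
  · rintro _ ⟨n, rfl⟩
    exact hsq n
  · rintro _ ⟨n, rfl⟩ _ ⟨m, rfl⟩ hn hm
    obtain ⟨g, hg⟩ := hR n (fun h => hn (by rw [h]; exact h0))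
    obtain ⟨k, hk⟩ := hR m (fun h => hm (by rw [h]; exact h0))
    refine ⟨k * g⁻¹, ?_⟩
    simp only
    rw [← hg, ← hk]
    group


end Abs

/-- `PSL(4,q)`, `q ≡ 1 (mod 4)`. -/
theorem psl_four {F : Type*} [Field F] [Finite F] (h4 : Nat.card F % 4 = 1) :
    Trans16 (Matrix.ProjectiveSpecialLinearGroup (Fin 4) F) := by
  classical
  have : Fintype F := Fintype.ofFinite F
  rw [Nat.card_eq_fintype_card] at h4
  have h2 : (2 : F) ≠ 0 := by
    apply Ring.two_ne_zero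
    intro h
    have := FiniteField.even_card_iff_char_two.1 h
    omega
  obtain ⟨i, hi⟩ := FiniteField.isSquare_neg_one_iff.2 (by omega : Fintype.card F % 4 ≠ 3)
  have hi' : i * i = -1 := hi.symm
  refine good (hom i hi') (MonoidHom.id _) h2 Function.injective_id (fun n => ?_) ?_ ?_
  · exact ⟨⟨mp (hom i hi') (PZ n), by rw [det_mp, det_PZ, map_one]⟩, rfl⟩
  · refine ⟨⟨(1 - i)⁻¹ • mp (hom i hi') C1, ?_⟩, (1 - i)⁻¹, rfl⟩
    rw [Matrix.det_smul, det_mp, det_C1, map_neg, Fintype.card_fin]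
    have : (hom i hi') 4 = 4 := map_ofNat _ 4
    rw [this]
    exact (mu_pow hi' h2).2
  · exact ⟨⟨mp (hom i hi') C3, by rw [det_mp, det_C3, map_one]⟩, rfl⟩

/-- `PSU(4,q)`, `q ≡ 3 (mod 4)`. -/
theorem psu_four {F : Type*} [Field F] [Finite F] {q : ℕ} (hF : Nat.card F = q ^ 2)
    (h4 : q % 4 = 3) : Trans16 (PSU 4 F q) := by
  classical
  have : Fintype F := Fintype.ofFinite F
  rw [Nat.card_eq_fintype_card] at hF
  have hcard4 : Fintype.card F % 4 = 1 := by
    rw [hF, Nat.pow_mod, h4]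
  have h2 : (2 : F) ≠ 0 := by
    apply Ring.two_ne_zero
    intro h
    have := FiniteField.even_card_iff_char_two.1 h
    omega
  obtain ⟨i, hi⟩ := FiniteField.isSquare_neg_one_iff.2 (by omega : Fintype.card F % 4 ≠ 3)
  have hi' : i * i = -1 := hi.symm
  obtain ⟨p, hp⟩ := CharP.exists F
  have hpp : p.Prime := CharP.char_is_prime F p
  have : Fact p.Prime := ⟨hpp⟩
  obtain ⟨n, -, hn⟩ := FiniteField.card F p
  have hq : q ∣ p ^ (n : ℕ) := by
    rw [← hn, hF]
    exact dvd_pow_self q two_ne_zero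
  obtain ⟨m, -, hm⟩ := (Nat.dvd_prime_pow hpp).1 hq
  have hexp : ExpChar F p := ExpChar.prime hpp
  let σ : F →+* F := iterateFrobenius F p m
  have hσ : ∀ x, σ x = x ^ q := by
    intro x
    rw [hm]
    exact iterateFrobenius_def p m x
  have hiq : i ^ q = -i := by
    obtain ⟨k, hk⟩ : ∃ k, q = 4 * k + 3 := ⟨q / 4, by omega⟩
    rw [hk, pow_add, pow_mul]
    have : i ^ 4 = 1 := by
      calc i ^ 4 = (i * i) * (i * i) := by ring
        _ = 1 := by rw [hi']; ring
    rw [this, one_pow, one_mul]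
    calc i ^ 3 = (i * i) * i := by ring
      _ = -i := by rw [hi']; ring
  have hφσ : ∀ x : GaussianInt, σ (hom i hi' x) = hom i hi' (star x) := by
    have : σ.comp (hom i hi') = (hom i hi').comp (starRingEnd GaussianInt) := by
      apply Zsqrtd.hom_ext
      rw [RingHom.comp_apply, RingHom.comp_apply]
      have e1 : (Zsqrtd.sqrtd : GaussianInt) = I := rfl
      rw [e1, hom_I, hσ, hiq]
      have e2 : starRingEnd GaussianInt I = -I := by
        rw [starRingEnd_apply]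
        decide +kernel
      rw [e2, map_neg, hom_I]
    exact fun x => RingHom.congr_fun this x
  have hS : ∀ g : SU 4 F q, (SU 4 F q).subtype g = g.1 := fun g => rfl
  refine good (hom i hi') (SU 4 F q).subtype h2 (SU 4 F q).subtype_injective (fun n => ?_) ?_ ?_
  · refine ⟨⟨⟨mp (hom i hi') (PZ n), by rw [det_mp, det_PZ, map_one]⟩, ?_⟩, rfl⟩
    exact mem_su σ hσ (hom i hi') hφσ (M := PZ n) (μ := 1) (N := 1) (one_smul _ _).symm
      (herm_PZ n) (by simp)
  · have hdet : ((1 - i)⁻¹ • mp (hom i hi') C1).det = 1 := by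
      rw [Matrix.det_smul, det_mp, det_C1, map_neg, Fintype.card_fin]
      have : (hom i hi') 4 = 4 := map_ofNat _ 4
      rw [this]
      exact (mu_pow hi' h2).2
    refine ⟨⟨⟨(1 - i)⁻¹ • mp (hom i hi') C1, hdet⟩, ?_⟩, (1 - i)⁻¹, rfl⟩
    refine mem_su σ hσ (hom i hi') hφσ (M := C1) (μ := (1 - i)⁻¹) (N := 2) rfl herm_C1 ?_
    have e1 : σ ((1 - i)⁻¹) = (1 + i)⁻¹ := by
      rw [map_inv₀, map_sub, map_one, hσ, hiq, sub_neg_eq_add]
    have e2 : (hom i hi') 2 = 2 := map_ofNat _ 2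
    rw [e1, e2, ← mul_inv]
    have e3 : (1 - i) * (1 + i) = 2 := by linear_combination -hi'
    rw [e3]
    exact inv_mul_cancel₀ h2
  · refine ⟨⟨⟨mp (hom i hi') C3, by rw [det_mp, det_C3, map_one]⟩, ?_⟩, rfl⟩
    exact mem_su σ hσ (hom i hi') hφσ (M := C3) (μ := 1) (N := 1) (one_smul _ _).symm
      herm_C3 (by simp)

end Cfsg.Agent.H245.Trans16
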