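import Mathlib
import Cfsg.Prelude.Def_CaseTheorems
import Cfsg.Agent.LFourA.FusionMain
import Cfsg.Agent.LFourA.Quot
import Cfsg.Agent.LFourA.SylDih
import Cfsg.Agent.Lib.NormalAbelian
import Cfsg.Agent.H245.Trans16

/-!
# Groups with Sylow 2-subgroup `D wr 2` without subgroups of index two

`le_of_even`: every normal subgroup of even order contains the Sylow 2-subgroup.
`exists_simple`: if the odd core is trivial, there is a simple normal subgroup of odd index.
`not_trans`: in the fusion pattern of case I the group has no elementary abelian subgroup of order 16 all of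
whose involutions are conjugate.
-/

set_option autoImplicit false

namespace Cfsg.Agent.H245.TypeA10

open DihedralGroup Cfsg.Agent.LFourA.Model Cfsg.Agent.LFourA.Base Cfsg.Agent.LFourA.Facts Cfsg.Agent.LFourA.Defs
open Subgroup

section

variable {G : Type*} [Group G] {k : ℕ} {f : D k → D k → G} {w : G}

/-- A normal subgroup containing `z` contains `S`. -/
theorem le_of_z_mem {S : Subgroup G} (h : DWr S k f w) (hc : CaseI f w ∨ CaseII f w) (N : Subgroup G)
    [hN : N.Normal] (hz : f (c k) (c k) ∈ N) : S ≤ N := by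
  have conj : ∀ {x y : G}, IsConj x y → y ∈ N → x ∈ N := by
    intro x y hxy hy
    obtain ⟨g, hg⟩ := isConj_iff.1 hxy.symm
    rw [← hg]
    exact hN.conj_mem y hy g
  obtain ⟨ht, hzz, hw⟩ : (∀ i, IsConj (f (sr i) 1) (f (c k) 1)) ∧
      (∀ i, IsConj (f (sr i) (c k)) (f (c k) (c k))) ∧
      (IsConj w (f (c k) 1) ∨ IsConj w (f (c k) (c k))) := by
    rcases hc with hc | hc
    · obtain ⟨g, hg, -⟩ := hc.w_t
      exact ⟨hc.typ_t, hc.typ_z, Or.inl (isConj_iff.2 ⟨g, hg⟩)⟩
    · obtain ⟨g, i, j, -, -, hg, -⟩ := hc.w_z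
      exact ⟨hc.typ_t, hc.typ_z, Or.inr (isConj_iff.2 ⟨g, hg⟩)⟩
  have h1 : ∀ i, f (sr i) (c k) ∈ N := fun i => conj (hzz i) hz
  have h2 : f (sr 0 * c k) 1 ∈ N := by
    have := N.mul_mem (h1 0) hz
    rwa [h.f_mul, c_mul_c] at this
  have htN : f (c k) 1 ∈ N := by
    rw [sr_c] at h2
    exact conj (ht _).symm h2
  have h3 : ∀ i, f (sr i) 1 ∈ N := fun i => conj (ht i) htN
  have h4 : ∀ a, f a 1 ∈ N := by
    rintro (i | i)
    · have h5 := N.mul_mem (h3 0) (h3 i)
      rw [h.f_mul, sr_mul_sr, sub_zero, one_mul] at h5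
      exact h5
    · exact h3 i
  have h5 : ∀ b, f 1 b ∈ N := by
    intro b
    rw [← w_conj h]
    exact hN.conj_mem _ (h4 b) w
  have h6 : ∀ a b, f a b ∈ N := by
    intro a b
    have := N.mul_mem (h4 a) (h5 b)
    rwa [h.f_mul, one_mul, mul_one] at this
  have h7 : w ∈ N := by
    rcases hw with hw | hw
    · exact conj hw htN
    · exact conj hw hz
  intro g hg
  rcases mem_cases h hg with ⟨a, b, rfl⟩ | ⟨a, b, rfl⟩
  · exact h6 a b
  · exact N.mul_mem (h6 a b) h7

variable [Finite G]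

/-- An element of 2-power order has a conjugate in a given Sylow 2-subgroup. -/
theorem exists_conj_mem (P : Sylow 2 G) {x : G} (hx : IsPGroup 2 (zpowers x)) : ∃ g : G, g * x * g⁻¹ ∈ P := by
  obtain ⟨Q, hQ⟩ := hx.exists_le_sylow
  obtain ⟨g, hg⟩ := MulAction.exists_smul_eq G Q P
  refine ⟨g, ?_⟩
  rw [← hg]
  change g * x * g⁻¹ ∈ ((g • Q : Sylow 2 G) : Subgroup G)
  rw [Sylow.coe_subgroup_smul]
  exact Subgroup.mem_map.2 ⟨x, hQ (mem_zpowers x), rfl⟩

variable {P : Sylow 2 G}

/-- **Every normal subgroup of even order contains the Sylow 2-subgroup.** -/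
theorem le_of_even (h : DWr (P : Subgroup G) k f w) (hG : ∀ φ : G →* ℤˣ, ∀ x, φ x = 1) (N : Subgroup G)
    [hN : N.Normal] (h2 : 2 ∣ Nat.card N) : (P : Subgroup G) ≤ N := by
  have h2p : Fact (Nat.Prime 2) := ⟨Nat.prime_two⟩
  obtain ⟨f', h', hc⟩ := Cfsg.Agent.LFourA.FusionMain.main h hG
  refine le_of_z_mem h' hc N ?_
  obtain ⟨x, hx⟩ := exists_prime_orderOf_dvd_card' 2 h2
  have hxG : orderOf (x : G) = 2 := by rw [Subgroup.orderOf_coe, hx]
  have hxp : IsPGroup 2 (zpowers (x : G)) := by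
    apply IsPGroup.of_card (n := 1)
    rw [Nat.card_zpowers, hxG, pow_one]
  obtain ⟨g, hg⟩ := exists_conj_mem P hxp
  have hne : N.subgroupOf (P : Subgroup G) ≠ ⊥ := by
    intro hb
    have h3 : (⟨g * x * g⁻¹, hg⟩ : P) ∈ N.subgroupOf (P : Subgroup G) :=
      mem_subgroupOf.2 (hN.conj_mem _ x.2 g)
    rw [hb, mem_bot] at h3
    have h4 : g * x * g⁻¹ = 1 := congrArg Subtype.val h3
    have h5 : (x : G) = 1 := by
      have := conj_eq_one_iff.1 h4
      exact this
    rw [h5, orderOf_one] at hxG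
    omega
  have hnil : Group.IsNilpotent (P : Subgroup G) := P.isPGroup'.isNilpotent
  have h3 := Cfsg.Agent.Lib.NormalAbelian.normal_inf_center_ne_bot (N.subgroupOf (P : Subgroup G)) hne
  obtain ⟨y, hy⟩ := Subgroup.ne_bot_iff_exists_ne_one.mp h3
  have hy1 : ((y : P) : G) ≠ 1 := by
    intro e
    apply hy
    apply Subtype.ext
    exact Subtype.ext e
  have hyc : ∀ s ∈ (P : Subgroup G), ((y : P) : G) * s = s * ((y : P) : G) := by
    intro s hs
    have := mem_center_iff.1 y.2.2 ⟨s, hs⟩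
    exact (congrArg Subtype.val this).symm
  rcases eq_of_central_S h' (y : P).2 hyc with e | e
  · exact absurd e hy1
  · rw [← e]
    exact mem_subgroupOf.1 y.2.1

omit [Finite G] in
/-- transport of coordinates to a subgroup containing `P` -/
theorem exists_sylow (h : DWr (P : Subgroup G) k f w) {N : Subgroup G} (hPN : (P : Subgroup G) ≤ N) :
    ∃ (Q : Sylow 2 N) (f' : D k → D k → N) (w' : N), DWr (Q : Subgroup N) k f' w' ∧
      (Q : Subgroup N) = (P : Subgroup G).subgroupOf N := by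
  have e : (P : Subgroup G) ≃* (P.subtype hPN : Subgroup N) := (Subgroup.subgroupOfEquivOfLe hPN).symm
  obtain ⟨f', w', h'⟩ := Cfsg.Agent.LFourA.SylDih.exists_of_equiv h e
  exact ⟨P.subtype hPN, f', w', h', rfl⟩

/-- The normal closure of `P` has no homomorphism onto a group of order two. -/
theorem no_hom (h : DWr (P : Subgroup G) k f w) (hG : ∀ φ : G →* ℤˣ, ∀ x, φ x = 1)
    (N : Subgroup G) (hNdef : N = normalClosure ((P : Subgroup G) : Set G)) (φ : N →* ℤˣ) (x : N) :
    φ x = 1 := by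
  have hN : N.Normal := hNdef ▸ normalClosure_normal
  have hPN : (P : Subgroup G) ≤ N := hNdef ▸ subset_normalClosure
  let K : Subgroup G := closure {x | ∃ n ∈ N, x = n * n}
  have hK : K.Normal := by
    constructor
    intro n hn g
    induction hn using closure_induction with
    | mem x hx =>
      obtain ⟨n, hn, rfl⟩ := hx
      refine subset_closure ⟨g * n * g⁻¹, hN.conj_mem n hn g, ?_⟩
      group
    | one => simp
    | mul x y _ _ hx hy =>
      have : g * (x * y) * g⁻¹ = (g * x * g⁻¹) * (g * y * g⁻¹) := by group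
      rw [this]
      exact K.mul_mem hx hy
    | inv x _ hx =>
      have : g * x⁻¹ * g⁻¹ = (g * x * g⁻¹)⁻¹ := by group
      rw [this]
      exact K.inv_mem hx
  have htK : f (c k) 1 ∈ K := by
    refine subset_closure ⟨f (x0 k) 1, hPN (f_mem h _ _), ?_⟩
    rw [h.f_mul, x0_mul_x0, one_mul]
  have h2 : 2 ∣ Nat.card K := by
    have h3 : orderOf (f (c k) 1) = 2 := by
      rw [orderOf_eq_prime_iff]
      refine ⟨?_, t_ne_one h⟩
      rw [pow_two, h.f_mul, c_mul_c, one_mul, f_one h]
    have h4 := orderOf_dvd_natCard (⟨f (c k) 1, htK⟩ : K)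
    rwa [← Subgroup.orderOf_coe, h3] at h4
  have hPK : (P : Subgroup G) ≤ K := le_of_even h hG K h2
  have hNK : N ≤ K := hNdef ▸ normalClosure_le_normal hPK
  have key : ∀ y ∈ K, ∀ hy : y ∈ N, φ ⟨y, hy⟩ = 1 := by
    have h5 : ∀ y ∈ K, ∃ hy : y ∈ N, φ ⟨y, hy⟩ = 1 := by
      intro y hy
      induction hy using closure_induction with
      | mem x hx =>
        obtain ⟨n, hn, rfl⟩ := hx
        refine ⟨N.mul_mem hn hn, ?_⟩
        have : (⟨n * n, N.mul_mem hn hn⟩ : N) = ⟨n, hn⟩ * ⟨n, hn⟩ := rfl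
        rw [this, map_mul]
        exact Int.units_mul_self _
      | one => exact ⟨N.one_mem, map_one φ⟩
      | mul x y _ _ hx hy =>
        obtain ⟨hx, ex⟩ := hx
        obtain ⟨hy, ey⟩ := hy
        refine ⟨N.mul_mem hx hy, ?_⟩
        have : (⟨x * y, N.mul_mem hx hy⟩ : N) = ⟨x, hx⟩ * ⟨y, hy⟩ := rfl
        rw [this, map_mul, ex, ey, one_mul]
      | inv x _ hx =>
        obtain ⟨hx, ex⟩ := hx
        refine ⟨N.inv_mem hx, ?_⟩
        have : (⟨x⁻¹, N.inv_mem hx⟩ : N) = (⟨x, hx⟩ : N)⁻¹ := rfl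
        rw [this, map_inv, ex, inv_one]
    intro y hy hyN
    exact (h5 y hy).2
  exact key x (hNK x.2) x.2

/-- **The simple normal subgroup.** -/
theorem isSimple (h : DWr (P : Subgroup G) k f w) (hG : ∀ φ : G →* ℤˣ, ∀ x, φ x = 1)
    (hO : Cfsg.oddCore G = ⊥) (N : Subgroup G) (hNdef : N = normalClosure ((P : Subgroup G) : Set G)) :
    IsSimpleGroup N := by
  have h2p : Fact (Nat.Prime 2) := ⟨Nat.prime_two⟩
  have hom := no_hom h hG N hNdef
  have hN : N.Normal := hNdef ▸ normalClosure_normal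
  have hPN : (P : Subgroup G) ≤ N := hNdef ▸ subset_normalClosure
  obtain ⟨Q, f', w', h', hQ⟩ := exists_sylow h hPN
  have hnt : Nontrivial N := by
    refine ⟨⟨f (c k) 1, hPN (f_mem h _ _)⟩, 1, fun e => t_ne_one h (congrArg Subtype.val e)⟩
  refine ⟨fun M hM => ?_⟩
  by_cases hM1 : M = ⊥
  · exact Or.inl hM1
  right
  -- `M` has even order
  have h2 : 2 ∣ Nat.card M := by
    by_contra hodd
    apply hM1
    have h3 : M ≤ Cfsg.pPrimeCore 2 N :=
      Cfsg.Agent.Lib.Cores.le_pPrimeCore hM ((Nat.prime_two.coprime_iff_not_dvd.2 hodd).symm)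
    have h4 := Cfsg.Agent.Lib.Cores.map_subtype_pPrimeCore 2 hN
    have h5 : Cfsg.pPrimeCore 2 G = ⊥ := hO
    rw [h5, inf_bot_eq, Subgroup.map_eq_bot_iff_of_injective _ N.subtype_injective] at h4
    rw [h4] at h3
    exact le_bot_iff.1 h3
  have hQM : (Q : Subgroup N) ≤ M := le_of_even h' hom M h2
  -- all 2-elements of `N` are in `M`
  have h2el : ∀ y : N, IsPGroup 2 (zpowers y) → y ∈ M := by
    intro y hy
    obtain ⟨g, hg⟩ := exists_conj_mem Q hy
    have h3 := hM.conj_mem _ (hQM hg) g⁻¹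
    have h4 : g⁻¹ * (g * y * g⁻¹) * g⁻¹⁻¹ = y := by group
    rwa [h4] at h3
  rw [eq_top_iff]
  rintro ⟨y, hy⟩ -
  have h3 : N ≤ M.map N.subtype := by
    refine le_trans (le_of_eq hNdef) ?_
    apply closure_le _ |>.2
    intro x hx
    obtain ⟨p, hp, hpx⟩ := Group.mem_conjugatesOfSet_iff.1 hx
    have hxN : x ∈ N := by
      rw [hNdef]
      exact conjugatesOfSet_subset_normalClosure hx
    refine ⟨⟨x, hxN⟩, ?_, rfl⟩
    apply h2el
    have h4 : IsPGroup 2 (zpowers p) := P.isPGroup'.to_le (by rwa [zpowers_le])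
    obtain ⟨n, hn⟩ := h4 ⟨p, mem_zpowers p⟩
    have hn' : p ^ 2 ^ n = 1 := congrArg Subtype.val hn
    obtain ⟨g, hg⟩ := isConj_iff.1 hpx
    have h5 : x ^ 2 ^ n = 1 := by
      rw [← hg, conj_pow, hn']
      group
    apply IsPGroup.iff_orderOf.2
    rintro ⟨u, hu⟩
    obtain ⟨j, rfl⟩ := hu
    have h6 : ((⟨x, hxN⟩ : N) ^ j) ^ 2 ^ n = 1 := by
      rw [← zpow_natCast, ← zpow_mul, mul_comm, zpow_mul, zpow_natCast]
      have : (⟨x, hxN⟩ : N) ^ 2 ^ n = 1 := Subtype.ext h5
      rw [this, one_zpow]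
    have h7 : orderOf (⟨(⟨x, hxN⟩ : N) ^ j, ⟨j, rfl⟩⟩ : zpowers (⟨x, hxN⟩ : N)) ∣ 2 ^ n := by
      apply orderOf_dvd_of_pow_eq_one
      exact Subtype.ext h6
    obtain ⟨m, -, hm⟩ := (Nat.dvd_prime_pow Nat.prime_two).1 h7
    exact ⟨m, hm⟩
  obtain ⟨y', hy', e⟩ := h3 hy
  have : y' = ⟨y, hy⟩ := Subtype.ext e
  rwa [← this]

/-! ### Elementary abelian subgroups of order 16 -/

omit [Finite G] in
/-- An elementary abelian subgroup of the base group has order at most 16. -/
theorem card_elem_le {S : Subgroup G} (h : DWr S k f w) (A : Subgroup G) (hA : A ≤ base h)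
    (hA2 : ∀ x ∈ A, x * x = 1) : Nat.card A ≤ 16 := by
  have e : (A ⊓ base h : Subgroup G) = A := inf_eq_left.2 hA
  rw [← e, ← card_comap_F h]
  set P' : Subgroup (D k × D k) := A.comap (F h) with hP
  have h1 : Nat.card (P'.map (MonoidHom.fst (D k) (D k))) ≤ 4 := by
    apply Cfsg.Agent.LFourA.Facts.card_elem_le
    rintro _ ⟨p, hp, rfl⟩
    exact ((f_sq_one_iff h).1 (hA2 _ hp)).1
  have h2 : Nat.card (P'.map (MonoidHom.snd (D k) (D k))) ≤ 4 := by
    apply Cfsg.Agent.LFourA.Facts.card_elem_le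
    rintro _ ⟨p, hp, rfl⟩
    exact ((f_sq_one_iff h).1 (hA2 _ hp)).2
  have h3 : Nat.card P' ≤ Nat.card (P'.map (MonoidHom.fst (D k) (D k)) × P'.map (MonoidHom.snd (D k) (D k))) := by
    apply Nat.card_le_card_of_injective (fun x : P' =>
      ((⟨x.1.1, x.1, x.2, rfl⟩ : P'.map (MonoidHom.fst (D k) (D k))),
        (⟨x.1.2, x.1, x.2, rfl⟩ : P'.map (MonoidHom.snd (D k) (D k)))))
    rintro ⟨⟨p, q⟩, hp⟩ ⟨⟨p', q'⟩, hp'⟩ e
    have e1 : p = p' := congrArg (fun y => (Subtype.val (Prod.fst y))) e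
    have e2 : q = q' := congrArg (fun y => (Subtype.val (Prod.snd y))) e
    simp [e1, e2]
  rw [Nat.card_prod] at h3
  calc Nat.card P' ≤ _ := h3
    _ ≤ 4 * 4 := Nat.mul_le_mul h1 h2

omit [Finite G] in
/-- An elementary abelian subgroup of order 16 contains `f e e'`, `e, e' ∈ {1, c}`. -/
theorem central_mem {S : Subgroup G} (h : DWr S k f w) (A : Subgroup G) (hA : A ≤ S)
    (hA2 : ∀ x ∈ A, x * x = 1) (h16 : Nat.card A = 16) {e e' : D k} (he : e = 1 ∨ e = c k)
    (he' : e' = 1 ∨ e' = c k) : f e e' ∈ A := by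
  have hAb : A ≤ base h := le_base_of_elem h A hA hA2 h16.ge
  by_contra hcon
  have hcomm : ∀ x ∈ A, f e e' * x = x * f e e' := by
    intro x hx
    obtain ⟨a, b, rfl⟩ := hAb hx
    exact f_comm_center h he he'
  have hsq : f e e' * f e e' = 1 := by
    rw [h.f_mul, f_eq_one_iff h]
    refine ⟨?_, ?_⟩
    · rcases he with rfl | rfl
      · simp
      · exact c_mul_c
    · rcases he' with rfl | rfl
      · simp
      · exact c_mul_c
  obtain ⟨t, ht⟩ : ∃ t : G, t = f e e' := ⟨_, rfl⟩
  rw [← ht] at hcon hcomm hsq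
  let B : Subgroup G :=
    { carrier := {x | x ∈ A ∨ x * t ∈ A}
      mul_mem' := by
        rintro x y (hx | hx) (hy | hy)
        · exact Or.inl (A.mul_mem hx hy)
        · right
          rw [mul_assoc]
          exact A.mul_mem hx hy
        · right
          have : x * y * t = x * t * y := by rw [mul_assoc, ← hcomm y hy, mul_assoc]
          rw [this]
          exact A.mul_mem hx hy
        · left
          have h1 : t * y = y * t := by
            have h2 := hcomm _ hy
            have h3 : t * (y * t) = (t * y) * t := by group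
            rw [h3] at h2
            exact mul_right_cancel h2
          have : x * y = (x * t) * (y * t) := by
            calc x * y = x * (t * t) * y := by rw [hsq, mul_one]
              _ = (x * t) * (t * y) := by group
              _ = (x * t) * (y * t) := by rw [h1]
          rw [this]
          exact A.mul_mem hx hy
      one_mem' := Or.inl A.one_mem
      inv_mem' := by
        rintro x (hx | hx)
        · exact Or.inl (A.inv_mem hx)
        · right
          have h1 := A.inv_mem hx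
          have h2 := hcomm _ h1
          have h3 : x⁻¹ * t = t * (x * t)⁻¹ * t := by group
          rw [h3, h2]
          have : (x * t)⁻¹ * t * t = (x * t)⁻¹ := by rw [mul_assoc, hsq, mul_one]
          rw [this]
          exact h1 }
  have hAB : A ≤ B := fun x hx => Or.inl hx
  have htB : t ∈ B := Or.inr (by rw [hsq]; exact A.one_mem)
  have hB2 : ∀ x ∈ B, x * x = 1 := by
    rintro x (hx | hx)
    · exact hA2 x hx
    · have h1 := hA2 _ hx
      have h2 := hcomm _ hx
      have h3 : t * x = x * t := by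
        have h3 : t * (x * t) = (t * x) * t := by group
        rw [h3] at h2
        exact mul_right_cancel h2
      calc x * x = x * x * (t * t) := by rw [hsq, mul_one]
        _ = x * (x * t) * t := by group
        _ = x * (t * x) * t := by rw [h3]
        _ = x * t * (x * t) := by group
        _ = 1 := h1
  have hBb : B ≤ base h := by
    have htb : t ∈ base h := by rw [ht]; exact f_mem_base h _ _
    rintro x (hx | hx)
    · exact hAb hx
    · have h1 := (base h).mul_mem (hAb hx) htb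
      rwa [mul_assoc, hsq, mul_one] at h1
  have h1 := card_elem_le h B hBb hB2
  have h2 : Nat.card A ∣ Nat.card B := Subgroup.card_dvd_of_le hAB
  rw [h16] at h2
  have hBfin : Finite B := by
    have : Finite (base h) := Nat.finite_of_card_ne_zero (by rw [card_base h]; positivity)
    exact Finite.of_injective (Subgroup.inclusion hBb) (Subgroup.inclusion_injective hBb)
  have h3 : Nat.card B = 16 := by
    obtain ⟨m, hm⟩ := h2
    have hpos : 0 < Nat.card B := Nat.card_pos
    have : m = 1 := by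
      rcases m with _ | _ | m
      · omega
      · rfl
      · omega
    omega
  have h4 : A = B := by
    apply Subgroup.eq_of_le_of_card_ge hAB
    rw [h3, h16]
  rw [← h4] at htB
  exact hcon htB

/-- In case I there is no elementary abelian subgroup of order 16 with conjugate involutions. -/
theorem not_trans (h : DWr (P : Subgroup G) k f w) (hc : ¬ IsConj (f (c k) 1) (f (c k) (c k))) :
    ¬ Cfsg.Agent.H245.Trans16.Trans16 G := by
  have h2p : Fact (Nat.Prime 2) := ⟨Nat.prime_two⟩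
  rintro ⟨E, hE, hE2, hEc⟩
  have hEp : IsPGroup 2 E := by
    apply IsPGroup.of_card (n := 4)
    rw [hE]
    norm_num
  obtain ⟨Q, hQ⟩ := hEp.exists_le_sylow
  obtain ⟨g, hg⟩ := MulAction.exists_smul_eq G Q P
  set A : Subgroup G := E.map (MulAut.conj g).toMonoidHom with hA
  have hAP : A ≤ (P : Subgroup G) := by
    rw [← hg, Sylow.coe_subgroup_smul]
    exact Subgroup.map_mono hQ
  have hA2 : ∀ x ∈ A, x * x = 1 := by
    rintro _ ⟨x, hx, rfl⟩
    rw [← map_mul, hE2 x hx, map_one]
  have hA16 : Nat.card A = 16 := by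
    rw [← hE]
    exact (Nat.card_congr (E.equivMapOfInjective _ (MulAut.conj g).injective).toEquiv).symm
  obtain ⟨a, ha, hae⟩ := central_mem h A hAP hA2 hA16 (Or.inr rfl) (Or.inl rfl)
  obtain ⟨b, hb, hbe⟩ := central_mem h A hAP hA2 hA16 (Or.inr rfl) (Or.inr rfl)
  have ha1 : a ≠ 1 := by
    rintro rfl
    rw [map_one] at hae
    exact t_ne_one h hae.symm
  have hb1 : b ≠ 1 := by
    rintro rfl
    rw [map_one] at hbe
    exact z_ne_one h hbe.symm
  obtain ⟨y, hy⟩ := hEc a ha b hb ha1 hb1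
  apply hc
  rw [← hae, ← hbe, isConj_iff]
  refine ⟨g * y * g⁻¹, ?_⟩
  rw [← hy]
  simp only [MulEquiv.toMonoidHom_eq_coe, MonoidHom.coe_coe, MulAut.conj_apply]
  group

end

end Cfsg.Agent.H245.TypeA10
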